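import Cfsg.Prelude.Def_PLocal
import Cfsg.Agent.Modules.Quadratic
import Cfsg.Agent.Signalizer.Generation
import Cfsg.Agent.Coprime.Generation
import Cfsg.Agent.PSolv.Factorization

/-!
Failure of factorization: offenders in a group with a self-centralizing `p'`-core, acting
faithfully on an elementary abelian `p`-group.
-/

set_option autoImplicit false

open Cfsg

namespace Cfsg.Agent.FF

variable {p : ℕ} {G : Type*} [Group G]

theorem card_le_of_le' [Finite G] {X Y : Subgroup G} (h : X ≤ Y) : Nat.card X ≤ Nat.card Y :=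
  Nat.le_of_dvd Nat.card_pos (Subgroup.card_dvd_of_le h)

/-- A strict inclusion of finite `p`-groups costs at least a factor `p`. -/
theorem mul_card_le_of_lt [Finite G] [Fact p.Prime] {X Y : Subgroup G} (hY : IsPGroup p Y)
    (h : X < Y) : p * Nat.card X ≤ Nat.card Y := by
  have h1 := Subgroup.relIndex_mul_relIndex ⊥ X Y bot_le h.le
  rw [Subgroup.relIndex_bot_left, Subgroup.relIndex_bot_left] at h1
  obtain ⟨n, hn⟩ := IsPGroup.iff_card.1 hY
  obtain ⟨i, _, hi⟩ := (Nat.dvd_prime_pow Fact.out).1 (hn ▸ Dvd.intro_left _ h1)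
  have hne : i ≠ 0 := fun h0 => h.not_ge (Subgroup.relIndex_eq_one.1 (by rw [hi, h0, pow_zero]))
  rw [← h1, hi, mul_comm]
  exact Nat.mul_le_mul_left _ (Nat.le_self_pow hne p)

/-- For each nontrivial `a ∈ A` there is a hyperplane of `A` missing `a` with more fixed points. -/
theorem exists_hyperplane [Finite G] [Fact p.Prime] {V Q A : Subgroup G}
    (hV : IsPGroup p V) (hQ : (Nat.card Q).Coprime p) (hQV : Q ≤ Subgroup.normalizer (V : Set G))
    (hAV : A ≤ Subgroup.normalizer (V : Set G)) (hAQ : A ≤ Subgroup.normalizer (Q : Set G))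
    (hA : IsElementaryAbelian p A) (hQf : Q ⊓ Subgroup.centralizer (V : Set G) = ⊥)
    (hAf : A ⊓ Subgroup.centralizer (Q : Set G) = ⊥) {a : G} (haA : a ∈ A) (ha : a ≠ 1) :
    ∃ B ≤ A, a ∉ B ∧ B.relIndex A = p ∧
      V ⊓ Subgroup.centralizer (A : Set G) < V ⊓ Subgroup.centralizer (B : Set G) := by
  by_contra hcon
  push Not at hcon
  have hnd : ¬ p ∣ Nat.card Q := (Nat.Prime.coprime_iff_not_dvd Fact.out).1 hQ.symm
  have key : ∀ B : Subgroup G, B ≤ A → B.relIndex A ≤ p →
      Q ⊓ Subgroup.centralizer (B : Set G) ≤ Subgroup.centralizer {a} := by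
    intro B hB hBi
    by_cases haB : a ∈ B
    · exact inf_le_right.trans (Subgroup.centralizer_le (Set.singleton_subset_iff.2 haB))
    have hrel : B.relIndex A = p := by
      obtain ⟨n, hn⟩ := Modules.elemAb_card hA
      obtain ⟨i, _, hi⟩ := (Nat.dvd_prime_pow Fact.out).1
        (hn ▸ Subgroup.relIndex_dvd_card B A)
      rcases Nat.lt_or_ge i 1 with h | h
      · exact absurd (Subgroup.relIndex_eq_one.1 (by rw [hi, Nat.lt_one_iff.1 h, pow_zero]) haA)
          haB
      · exact le_antisymm hBi (hi ▸ Nat.le_self_pow (by omega) p)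
    have hWeq : V ⊓ Subgroup.centralizer (B : Set G) = V ⊓ Subgroup.centralizer (A : Set G) := by
      have h1 : V ⊓ Subgroup.centralizer (A : Set G) ≤ V ⊓ Subgroup.centralizer (B : Set G) :=
        inf_le_inf_left _ (Subgroup.centralizer_le hB)
      exact (eq_of_le_of_not_lt h1 (hcon B hB haB hrel)).symm
    intro c hc
    obtain ⟨hcQ, hcB⟩ := Subgroup.mem_inf.1 hc
    rw [Subgroup.mem_centralizer_singleton_iff]
    have hcm : ∀ b ∈ B, b * c = c * b := fun b hb => Subgroup.mem_centralizer_iff.1 hcB b hb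
    set R := Subgroup.zpowers (c * a * c⁻¹ * a⁻¹)
    have hrQ : c * a * c⁻¹ * a⁻¹ ∈ Q := by
      have h1 : a * c⁻¹ * a⁻¹ ∈ Q := (Subgroup.mem_normalizer_iff.1 (hAQ haA) _).1 (Q.inv_mem hcQ)
      simpa [mul_assoc] using Q.mul_mem hcQ h1
    have hrB : B ≤ Subgroup.centralizer (R : Set G) := by
      intro b hb
      rw [Modules.centralizer_zpowers_eq, Subgroup.mem_centralizer_singleton_iff]
      have hba : b * a = a * b := Modules.elemAb_comm hA (hB hb) haA
      have h1 : b ∈ Subgroup.centralizer {a} :=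
        Subgroup.mem_centralizer_singleton_iff.2 hba
      have h2 : b ∈ Subgroup.centralizer {c} :=
        Subgroup.mem_centralizer_singleton_iff.2 (hcm b hb)
      have h3 : ∀ {x}, b ∈ Subgroup.centralizer {x} → x ∈ Subgroup.centralizer {b} := fun hx =>
        Subgroup.mem_centralizer_singleton_iff.2 (Subgroup.mem_centralizer_singleton_iff.1 hx).symm
      exact (Subgroup.mem_centralizer_singleton_iff.1
        (mul_mem (mul_mem (mul_mem (h3 h2) (h3 h1)) (inv_mem (h3 h2))) (inv_mem (h3 h1)))).symm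
    have hrC : R ≤ Subgroup.centralizer
        ((V ⊓ Subgroup.centralizer (B : Set G) : Subgroup G) : Set G) := by
      rw [Subgroup.zpowers_le, Subgroup.mem_centralizer_iff]
      intro w hw
      have hfix : ∀ u ∈ V ⊓ Subgroup.centralizer (B : Set G), a * u * a⁻¹ = u := by
        intro u hu
        rw [hWeq] at hu
        rw [Subgroup.mem_centralizer_iff.1 hu.2 a haA, mul_inv_cancel_right]
      have hcw : c⁻¹ * w * c ∈ V ⊓ Subgroup.centralizer (B : Set G) := by
        refine Subgroup.mem_inf.2 ⟨(Subgroup.mem_normalizer_iff''.1 (hQV hcQ) w).1 hw.1, ?_⟩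
        exact mul_mem (mul_mem (inv_mem hcB) hw.2) hcB
      have h1 : a⁻¹ * w * a = w := by
        conv_lhs => rw [← hfix w hw]
        group
      have h2 : c * a * c⁻¹ * a⁻¹ * w * (c * a * c⁻¹ * a⁻¹)⁻¹ = w := by
        calc c * a * c⁻¹ * a⁻¹ * w * (c * a * c⁻¹ * a⁻¹)⁻¹
            = c * (a * (c⁻¹ * (a⁻¹ * w * a) * c) * a⁻¹) * c⁻¹ := by group
          _ = w := by rw [h1, hfix _ hcw]; group
      exact (mul_inv_eq_iff_eq_mul.1 h2).symm
    have hRcop : (Nat.card R).Coprime p :=
      Nat.Coprime.coprime_dvd_left (Subgroup.card_dvd_of_le (Subgroup.zpowers_le.2 hrQ)) hQ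
    have hRV := Coprime.pxq_lemma ((Modules.elemAb_isPGroup hA).to_le hB) hRcop hV
      (hB.trans hAV) ((Subgroup.zpowers_le.2 hrQ).trans hQV) hrB hrC
    have hr1 : c * a * c⁻¹ * a⁻¹ ∈ Q ⊓ Subgroup.centralizer (V : Set G) :=
      ⟨hrQ, hRV (Subgroup.mem_zpowers _)⟩
    rw [hQf, Subgroup.mem_bot, mul_inv_eq_one, mul_inv_eq_iff_eq_mul] at hr1
    exact hr1
  have hfin := Signalizer.le_of_forall_hyperplane hA hAQ hnd key
  have : a ∈ A ⊓ Subgroup.centralizer (Q : Set G) := by
    refine ⟨haA, Subgroup.mem_centralizer_iff.2 fun q hq => ?_⟩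
    exact Subgroup.mem_centralizer_singleton_iff.1 (hfin hq)
  rw [hAf, Subgroup.mem_bot] at this
  exact ha this

/-- The standing hypothesis of the failure-of-factorization theory. -/
structure Hyp (p : ℕ) {G : Type*} [Group G] (V H : Subgroup G) : Prop where
  elem : IsElementaryAbelian p V
  norm : H ≤ Subgroup.normalizer (V : Set G)
  faith : H ⊓ Subgroup.centralizer (V : Set G) = ⊥
  self : Subgroup.centralizer (pPrimeCore p ↥H : Set ↥H) ≤ pPrimeCore p ↥H

/-- The `p'`-core of `H` as a subgroup of `G`. -/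
abbrev qcore (p : ℕ) {G : Type*} [Group G] (H : Subgroup G) : Subgroup G :=
  (pPrimeCore p ↥H).map H.subtype

variable {V H A : Subgroup G}

theorem qcore_le : qcore p H ≤ H := Subgroup.map_subtype_le _

theorem qcore_coprime [Finite G] : (Nat.card (qcore p H)).Coprime p :=
  Nat.Coprime.coprime_dvd_left (Subgroup.card_map_dvd _ _) (PSolv.coprime_card_pPrimeCore p H)

theorem le_normalizer_qcore : H ≤ Subgroup.normalizer (qcore p H : Set G) :=
  Subgroup.le_normalizer_map H.subtype |>.trans' (by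
    rw [Subgroup.normalizer_eq_top_iff.2 inferInstance, ← MonoidHom.range_eq_map,
      Subgroup.range_subtype])

theorem Hyp.qcore_faith (h : Hyp p V H) :
    qcore p H ⊓ Subgroup.centralizer (V : Set G) = ⊥ :=
  le_bot_iff.1 (h.faith ▸ inf_le_inf_right _ qcore_le)

theorem Hyp.inf_centralizer_qcore [Finite G] [Fact p.Prime] (h : Hyp p V H) (hAH : A ≤ H)
    (hA : IsPGroup p A) : A ⊓ Subgroup.centralizer (qcore p H : Set G) = ⊥ := by
  rw [eq_bot_iff]
  rintro x ⟨hxA, hxC⟩
  have hxQ : x ∈ qcore p H := by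
    refine ⟨⟨x, hAH hxA⟩, h.self (Subgroup.mem_centralizer_iff.2 fun q hq => ?_), rfl⟩
    exact Subtype.ext (Subgroup.mem_centralizer_iff.1 hxC q ⟨q, hq, rfl⟩)
  have := PSolv.sylow_inf_eq_bot (qcore_coprime (p := p) (H := H)) hA
  exact this ▸ ⟨hxA, hxQ⟩

theorem Hyp.elemAb (h : Hyp p V H) (hAH : A ≤ H) (hA : IsBestOffenderOn p V A) :
    IsElementaryAbelian p A := by
  have key : ∀ x ∈ H, x ∈ Subgroup.centralizer (V : Set G) → x = 1 := fun x hx hc =>
    Subgroup.mem_bot.1 (h.faith ▸ ⟨hx, hc⟩)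
  refine ⟨Modules.comm_iff.2 fun a ha b hb => ?_, fun a ha => key _ (pow_mem (hAH ha) p) (hA.2.2 a ha)⟩
  refine commutatorElement_eq_one_iff_mul_comm.1 (key _ ?_
    (hA.2.1 (Subgroup.commutator_mem_commutator ha hb)))
  rw [commutatorElement_def]
  exact mul_mem (mul_mem (mul_mem (hAH ha) (hAH hb)) (inv_mem (hAH ha))) (inv_mem (hAH hb))

theorem Hyp.exists_hyperplane [Finite G] [Fact p.Prime] (h : Hyp p V H) (hAH : A ≤ H)
    (hA : IsElementaryAbelian p A) {a : G} (haA : a ∈ A) (ha : a ≠ 1) :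
    ∃ B ≤ A, a ∉ B ∧ B.relIndex A = p ∧
      p * Nat.card ↥(V ⊓ Subgroup.centralizer (A : Set G)) ≤
        Nat.card ↥(V ⊓ Subgroup.centralizer (B : Set G)) := by
  obtain ⟨B, hBA, haB, hi, hlt⟩ := FF.exists_hyperplane (Modules.elemAb_isPGroup h.elem)
    qcore_coprime (qcore_le.trans h.norm) (hAH.trans h.norm) (hAH.trans le_normalizer_qcore)
    hA h.qcore_faith (h.inf_centralizer_qcore hAH (Modules.elemAb_isPGroup hA)) haA ha
  exact ⟨B, hBA, haB, hi,
    mul_card_le_of_lt ((Modules.elemAb_isPGroup h.elem).to_inf_left) hlt⟩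

theorem card_eq_card_mul_relIndex {B : Subgroup G} (hBA : B ≤ A) :
    Nat.card A = Nat.card B * B.relIndex A := by
  have h1 := Subgroup.relIndex_mul_relIndex ⊥ B A bot_le hBA
  rwa [Subgroup.relIndex_bot_left, Subgroup.relIndex_bot_left, eq_comm] at h1

/-- Every elementary abelian subgroup `A` of `H` satisfies `|A| |C_V(A)| ≤ |V|`. -/
theorem Hyp.card_mul_le [Finite G] [Fact p.Prime] (h : Hyp p V H) :
    ∀ A : Subgroup G, A ≤ H → IsElementaryAbelian p A →
      Nat.card A * Nat.card ↥(V ⊓ Subgroup.centralizer (A : Set G)) ≤ Nat.card V := by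
  intro A
  induction hn : Nat.card A using Nat.strong_induction_on generalizing A with
  | _ n ih =>
    subst hn
    intro hAH hA
    by_cases hAb : A = ⊥
    · rw [hAb, Subgroup.card_bot, one_mul]
      exact card_le_of_le' inf_le_left
    obtain ⟨a, haA, ha⟩ := (Subgroup.bot_or_exists_ne_one A).resolve_left hAb
    obtain ⟨B, hBA, haB, hi, hc⟩ := h.exists_hyperplane hAH hA haA ha
    have hcard : Nat.card A = Nat.card B * p := hi ▸ card_eq_card_mul_relIndex hBA
    have hlt : Nat.card B < Nat.card A := by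
      rw [hcard]
      exact lt_mul_right Nat.card_pos (Fact.out : p.Prime).one_lt
    refine le_trans ?_ (ih _ hlt B rfl (hBA.trans hAH) (Modules.elemAb_mono hBA hA))
    rw [hcard, mul_assoc]
    exact Nat.mul_le_mul_left _ hc

theorem Hyp.bestOffender_iff [Finite G] [Fact p.Prime] (h : Hyp p V H) (hAH : A ≤ H) :
    IsBestOffenderOn p V A ↔ IsElementaryAbelian p A ∧
      Nat.card A * Nat.card ↥(V ⊓ Subgroup.centralizer (A : Set G)) = Nat.card V := by
  constructor
  · intro hA
    refine ⟨h.elemAb hAH hA, le_antisymm (h.card_mul_le A hAH (h.elemAb hAH hA)) ?_⟩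
    have h1 := hA.1 ⊥ bot_le
    rwa [Subgroup.card_bot, one_mul, inf_eq_left.2 (fun v _ => Subgroup.mem_centralizer_iff.2
      fun x hx => by rw [Subgroup.mem_bot.1 hx, one_mul, mul_one])] at h1
  · rintro ⟨hA, hc⟩
    refine ⟨fun B hB => ?_, ?_, fun a ha => by rw [hA.2 a ha]; exact one_mem _⟩
    · rw [hc]
      exact h.card_mul_le B (hB.trans hAH) (Modules.elemAb_mono hB hA)
    · rw [Subgroup.commutator_eq_bot_iff_le_centralizer.2 (Modules.elemAb_le_centralizer hA)]
      exact bot_le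

/-- A best offender has, for each nontrivial element, a hyperplane best offender missing it. -/
theorem Hyp.exists_offender_hyperplane [Finite G] [Fact p.Prime] (h : Hyp p V H) (hAH : A ≤ H)
    (hA : IsBestOffenderOn p V A) {a : G} (haA : a ∈ A) (ha : a ≠ 1) :
    ∃ B ≤ A, a ∉ B ∧ B.relIndex A = p ∧ IsBestOffenderOn p V B := by
  obtain ⟨hAe, hAc⟩ := (h.bestOffender_iff hAH).1 hA
  obtain ⟨B, hBA, haB, hi, hc⟩ := h.exists_hyperplane hAH hAe haA ha
  refine ⟨B, hBA, haB, hi, (h.bestOffender_iff (hBA.trans hAH)).2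
    ⟨Modules.elemAb_mono hBA hAe, ?_⟩⟩
  refine le_antisymm (h.card_mul_le B (hBA.trans hAH) (Modules.elemAb_mono hBA hAe)) ?_
  have hcard : Nat.card A = Nat.card B * p := hi ▸ card_eq_card_mul_relIndex hBA
  rw [← hAc, hcard, mul_assoc]
  exact Nat.mul_le_mul_left _ hc

theorem relIndex_eq_prime_top [Finite G] [Fact p.Prime] {B : Subgroup G} (_hA : IsPGroup p A)
    (hi : B.relIndex A = p) (hBA : B ≤ A) {X : Subgroup G} (hXA : X ≤ A) (hX : ¬ X ≤ B) :
    B ⊔ X = A := by
  refine le_antisymm (sup_le hBA hXA) (Subgroup.relIndex_eq_one.1 ?_)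
  have hd : (B ⊔ X).relIndex A ∣ p := hi ▸ Subgroup.relIndex_dvd_of_le_left A le_sup_left
  rcases (Nat.dvd_prime (Fact.out : p.Prime)).1 hd with h1 | h1
  · exact h1
  · exfalso
    have h2 := Subgroup.relIndex_mul_relIndex B (B ⊔ X) A le_sup_left (sup_le hBA hXA)
    rw [hi, h1] at h2
    have h3 : B.relIndex (B ⊔ X) = 1 := by
      simpa [(Fact.out : p.Prime).ne_zero] using h2
    exact hX (le_sup_right.trans (Subgroup.relIndex_eq_one.1 h3))

/-- A best offender is generated by best offenders of order `p`. -/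
theorem Hyp.le_iSup_lines [Finite G] [Fact p.Prime] (h : Hyp p V H) :
    ∀ A : Subgroup G, A ≤ H → IsBestOffenderOn p V A →
      A ≤ ⨆ L : {L : Subgroup G // L ≤ A ∧ Nat.card L = p ∧ IsBestOffenderOn p V L},
        (L : Subgroup G) := by
  intro A
  induction hn : Nat.card A using Nat.strong_induction_on generalizing A with
  | _ n ih =>
    subst hn
    intro hAH hA
    by_cases hAb : A = ⊥
    · exact hAb ▸ bot_le
    by_cases hAp : Nat.card A = p
    · exact le_iSup_of_le ⟨A, le_rfl, hAp, hA⟩ le_rfl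
    obtain ⟨a, haA, ha⟩ := (Subgroup.bot_or_exists_ne_one A).resolve_left hAb
    obtain ⟨B, hBA, haB, hi, hB⟩ := h.exists_offender_hyperplane hAH hA haA ha
    have hcard : Nat.card A = Nat.card B * p := hi ▸ card_eq_card_mul_relIndex hBA
    have hBb : B ≠ ⊥ := fun hbot => hAp (by rw [hcard, hbot, Subgroup.card_bot, one_mul])
    obtain ⟨b, hbB, hb⟩ := (Subgroup.bot_or_exists_ne_one B).resolve_left hBb
    obtain ⟨B', hBA', hbB', hi', hB'⟩ := h.exists_offender_hyperplane hAH hA (hBA hbB) hb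
    have hcard' : Nat.card A = Nat.card B' * p := hi' ▸ card_eq_card_mul_relIndex hBA'
    have hp := (Fact.out : p.Prime).one_lt
    have sub : ∀ C : Subgroup G, C ≤ A → Nat.card C < Nat.card A → IsBestOffenderOn p V C →
        C ≤ ⨆ L : {L : Subgroup G // L ≤ A ∧ Nat.card L = p ∧ IsBestOffenderOn p V L},
          (L : Subgroup G) := fun C hC hlt hCo =>
      (ih _ hlt C rfl (hC.trans hAH) hCo).trans (iSup_le fun L =>
        le_iSup_of_le ⟨L.1, L.2.1.trans hC, L.2.2⟩ le_rfl)
    have h1 := sub B hBA (by rw [hcard]; exact lt_mul_right Nat.card_pos hp) hB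
    have h2 := sub B' hBA' (by rw [hcard']; exact lt_mul_right Nat.card_pos hp) hB'
    have htop : B' ⊔ B = A := relIndex_eq_prime_top
      (Modules.elemAb_isPGroup (h.elemAb hAH hA)) hi' hBA' hBA (fun hle => hbB' (hle hbB))
    exact htop.symm.le.trans (sup_le h2 h1)

/-- A best offender nontrivial on `V` and minimal such has order `p`. -/
theorem Hyp.card_minimal [Finite G] [Fact p.Prime] (h : Hyp p V H) (hAH : A ≤ H)
    (hA : IsBestOffenderOn p V A) (hAV : ⁅V, A⁆ ≠ ⊥)
    (hmin : ∀ B : Subgroup G, B ≤ A → IsBestOffenderOn p V B → ⁅V, B⁆ ≠ ⊥ → B = A) :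
    Nat.card A = p := by
  have hAb : A ≠ ⊥ := fun hb => hAV (by rw [hb, Subgroup.commutator_bot_right])
  obtain ⟨a, haA, ha⟩ := (Subgroup.bot_or_exists_ne_one A).resolve_left hAb
  have hle := h.le_iSup_lines A hAH hA
  obtain ⟨L, hL⟩ : ∃ L : {L : Subgroup G // L ≤ A ∧ Nat.card L = p ∧ IsBestOffenderOn p V L},
      True := by
    by_contra hne
    have : IsEmpty {L : Subgroup G // L ≤ A ∧ Nat.card L = p ∧ IsBestOffenderOn p V L} :=
      ⟨fun L => hne ⟨L, trivial⟩⟩
    rw [iSup_of_empty] at hle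
    exact hAb (le_bot_iff.1 hle)
  have hLV : ⁅V, (L : Subgroup G)⁆ ≠ ⊥ := by
    intro hb
    rw [Subgroup.commutator_eq_bot_iff_le_centralizer, Subgroup.le_centralizer_iff] at hb
    have : (L : Subgroup G) ≤ ⊥ := h.faith ▸ le_inf (L.2.1.trans hAH) hb
    rw [le_bot_iff] at this
    exact (Fact.out : p.Prime).ne_one (L.2.2.1.symm.trans (by rw [this, Subgroup.card_bot]))
  rw [← hmin L L.2.1 L.2.2.2 hLV]
  exact L.2.2.1

/-- A best offender of order `p` acts as a group of transvections. -/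
theorem Hyp.line_data [Finite G] [Fact p.Prime] (h : Hyp p V H) {L : Subgroup G} (hLH : L ≤ H)
    (hL : IsBestOffenderOn p V L) (hLp : Nat.card L = p) :
    Nat.card ↥⁅V, L⁆ = p ∧ (V ⊓ Subgroup.centralizer (L : Set G)).relIndex V = p := by
  obtain ⟨-, hc⟩ := (h.bestOffender_iff hLH).1 hL
  rw [hLp] at hc
  have hpos : 0 < Nat.card ↥(V ⊓ Subgroup.centralizer (L : Set G)) := Nat.card_pos
  refine ⟨?_, ?_⟩
  · obtain ⟨x, hx⟩ : ∃ x, L = Subgroup.zpowers x := by
      have : IsCyclic L := isCyclic_of_prime_card hLp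
      obtain ⟨g, hg⟩ := IsCyclic.exists_generator (α := L)
      refine ⟨g, le_antisymm (fun y hy => ?_) (Subgroup.zpowers_le.2 g.2)⟩
      obtain ⟨k, hk⟩ := hg ⟨y, hy⟩
      exact ⟨k, by simpa using congrArg Subtype.val hk⟩
    subst hx
    have h1 := Modules.card_eq_commutator_mul_centralizer h.elem.1
      (h.norm (hLH (Subgroup.mem_zpowers x)))
    rw [← Modules.centralizer_zpowers_eq] at h1
    exact Nat.eq_of_mul_eq_mul_right hpos (h1.symm.trans hc.symm)
  · have h1 := card_eq_card_mul_relIndex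
      (inf_le_left : V ⊓ Subgroup.centralizer (L : Set G) ≤ V)
    apply Nat.eq_of_mul_eq_mul_left hpos
    rw [← h1, ← hc, mul_comm]

/-- A family of subgroups of order `p` in an abelian group whose join has order `p ^ k` is independent. -/
theorem iSupIndep_of_card [Finite G] [Fact p.Prime] {k : ℕ} (B : Fin k → Subgroup G)
    (hA : IsMulCommutative A) (hB : ∀ i, B i ≤ A) (hc : ∀ i, Nat.card (B i) = p)
    (hsup : Nat.card ↥(⨆ i, B i) = p ^ k) : iSupIndep B := by
  classical
  have hcard : ∀ s : Finset (Fin k), Nat.card ↥(s.sup B) ≤ p ^ s.card := by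
    intro s
    induction s using Finset.induction_on with
    | empty => simp
    | insert a s ha ih =>
      rw [Finset.sup_insert, Finset.card_insert_of_notMem ha, pow_succ']
      have hsA : s.sup B ≤ A := Finset.sup_le fun i _ => hB i
      have hn : B a ≤ Subgroup.normalizer ((s.sup B : Subgroup G) : Set G) :=
        (hB a).trans ((Modules.comm_le_centralizer hA).trans
          ((Subgroup.centralizer_le hsA).trans (Subgroup.centralizer_le_normalizer _)))
      refine le_trans (Nat.le_of_dvd (Nat.mul_pos Nat.card_pos Nat.card_pos) ?_)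
        (Nat.mul_le_mul (hc a).le ih)
      exact Dvd.intro _ (Modules.card_sup_mul_card_inf hn)
  intro i
  rw [disjoint_iff]
  have hdvd : Nat.card ↥(B i ⊓ ⨆ (j) (_ : j ≠ i), B j) ∣ p :=
    hc i ▸ Subgroup.card_dvd_of_le inf_le_left
  rcases (Nat.dvd_prime (Fact.out : p.Prime)).1 hdvd with h1 | h1
  · exact Subgroup.eq_bot_of_card_eq _ h1
  exfalso
  have heq : B i ⊓ ⨆ (j) (_ : j ≠ i), B j = B i :=
    Subgroup.eq_of_le_of_card_ge inf_le_left (by rw [h1, hc i])
  have hle : B i ≤ (Finset.univ.erase i).sup B := by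
    refine le_trans (inf_eq_left.1 heq) (iSup₂_le fun j hj => ?_)
    exact Finset.le_sup (Finset.mem_erase.2 ⟨hj, Finset.mem_univ j⟩)
  have htot : (⨆ j, B j) ≤ (Finset.univ.erase i).sup B := by
    refine iSup_le fun j => ?_
    by_cases hj : j = i
    · exact hj ▸ hle
    · exact Finset.le_sup (Finset.mem_erase.2 ⟨hj, Finset.mem_univ j⟩)
  have hlast := (hsup.symm.le.trans (card_le_of_le' htot)).trans (hcard _)
  rw [Finset.card_erase_of_mem (Finset.mem_univ i), Finset.card_univ, Fintype.card_fin] at hlast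
  have : k - 1 < k := Nat.sub_lt (i.pos) one_pos
  exact absurd hlast (not_le.2 (Nat.pow_lt_pow_right (Fact.out : p.Prime).one_lt this))

/-- A best offender is a direct product of best offenders of order `p`. -/
theorem Hyp.exists_line_decomposition [Finite G] [Fact p.Prime] (h : Hyp p V H) :
    ∀ A : Subgroup G, A ≤ H → IsBestOffenderOn p V A → ∃ (k : ℕ) (B : Fin k → Subgroup G),
      (∀ i, B i ≤ A ∧ Nat.card (B i) = p ∧ IsBestOffenderOn p V (B i)) ∧
      iSupIndep B ∧ ⨆ i, B i = A ∧ Nat.card A = p ^ k := by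
  intro A
  induction hn : Nat.card A using Nat.strong_induction_on generalizing A with
  | _ n ih =>
    subst hn
    intro hAH hA
    by_cases hAb : A = ⊥
    · exact ⟨0, Fin.elim0, fun i => i.elim0, fun i => i.elim0,
        by rw [hAb, iSup_of_empty], by rw [hAb, Subgroup.card_bot, pow_zero]⟩
    obtain ⟨a, haA, ha⟩ := (Subgroup.bot_or_exists_ne_one A).resolve_left hAb
    obtain ⟨C, hCA, haC, hi, hC⟩ := h.exists_offender_hyperplane hAH hA haA ha
    have hcard : Nat.card A = Nat.card C * p := hi ▸ card_eq_card_mul_relIndex hCA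
    obtain ⟨k, B, hB, -, hsup, hCk⟩ := ih _ (by
      rw [hcard]; exact lt_mul_right Nat.card_pos (Fact.out : p.Prime).one_lt) C rfl
      (hCA.trans hAH) hC
    obtain ⟨L, hL⟩ : ∃ L : {L : Subgroup G // L ≤ A ∧ Nat.card L = p ∧ IsBestOffenderOn p V L},
        ¬ (L : Subgroup G) ≤ C := by
      by_contra hne
      push Not at hne
      exact haC ((h.le_iSup_lines A hAH hA).trans (iSup_le hne) haA)
    have hAe := h.elemAb hAH hA
    have htop : C ⊔ (L : Subgroup G) = A :=
      relIndex_eq_prime_top (Modules.elemAb_isPGroup hAe) hi hCA L.2.1 hL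
    have hsup' : ⨆ i, (Fin.cons (L : Subgroup G) B : Fin (k + 1) → Subgroup G) i = A := by
      refine le_antisymm (iSup_le ?_) (htop.symm.le.trans (sup_le ?_ ?_))
      · intro i
        refine Fin.cases ?_ (fun j => ?_) i
        · rw [Fin.cons_zero]; exact L.2.1
        · rw [Fin.cons_succ]; exact (hB j).1.trans hCA
      · rw [← hsup]
        exact iSup_le fun j => le_iSup_of_le j.succ (by rw [Fin.cons_succ])
      · exact le_iSup_of_le 0 (by rw [Fin.cons_zero])
    have hall : ∀ i, (Fin.cons (L : Subgroup G) B : Fin (k + 1) → Subgroup G) i ≤ A ∧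
        Nat.card ((Fin.cons (L : Subgroup G) B : Fin (k + 1) → Subgroup G) i) = p ∧
        IsBestOffenderOn p V ((Fin.cons (L : Subgroup G) B : Fin (k + 1) → Subgroup G) i) := by
      intro i
      refine Fin.cases ?_ (fun j => ?_) i
      · rw [Fin.cons_zero]; exact L.2
      · rw [Fin.cons_succ]; exact ⟨(hB j).1.trans hCA, (hB j).2⟩
    refine ⟨k + 1, _, hall, iSupIndep_of_card (A := A) _ hAe.1 (fun i => (hall i).1)
      (fun i => (hall i).2.1) ?_, hsup', by rw [hcard, hCk, pow_succ]⟩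
    rw [hsup', hcard, hCk, pow_succ]

end Cfsg.Agent.FF
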