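import Cfsg.Agent.FF.PlaneSL2
import Cfsg.Agent.Linear.Transvection

/-!
Failure of factorization: the block `[Q, L] L` of a line `L`.
-/

set_option autoImplicit false

open Cfsg
open scoped commutatorElement MatrixGroups

namespace Cfsg.Agent.FF

variable {p : ℕ} [hp : Fact p.Prime] {G : Type*} [Group G] [Finite G] {V H L L' : Subgroup G}

theorem Hyp.commutator_sup_eq (h : Hyp p V H) {M N : Subgroup G} (hM : M ≤ H) (hN : N ≤ H) :
    ⁅V, M ⊔ N⁆ = ⁅V, M⁆ ⊔ ⁅V, N⁆ := by
  refine le_antisymm ?_ (sup_le (Subgroup.commutator_mono le_rfl le_sup_left)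
    (Subgroup.commutator_mono le_rfl le_sup_right))
  set W := ⁅V, M⁆ ⊔ ⁅V, N⁆
  have hW : W ≤ V := sup_le (h.commutator_le hM) (h.commutator_le hN)
  refine Modules.commutator_le_of_closure (Subgroup.sup_eq_closure M N).le
    (Set.union_subset ?_ ?_) ?_
  · exact Subgroup.le_normalizer_iff_commutator_le_left.2
      ((Subgroup.commutator_mono hW le_rfl).trans le_sup_left)
  · exact Subgroup.le_normalizer_iff_commutator_le_left.2
      ((Subgroup.commutator_mono hW le_rfl).trans le_sup_right)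
  · rintro s (hs | hs) v hv
    · exact Subgroup.mem_sup_left (Subgroup.commutator_mem_commutator hv hs)
    · exact Subgroup.mem_sup_right (Subgroup.commutator_mem_commutator hv hs)

/-- The data of a block. -/
structure BlockData (p : ℕ) {G : Type*} [Group G] (V H L M : Subgroup G) : Prop where
  line : IsLine p V H M
  le_qcore : M ≤ qcore p H ⊔ L
  ne : L ≠ M
  sup_eq : L ⊔ M = eblock p H L

theorem Hyp.exists_blockData (h : Hyp p V H) (hL : IsLine p V H L) :
    ∃ M : Subgroup G, BlockData p V H L M := by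
  obtain ⟨x, hx, hxL⟩ := h.exists_not_centralizing hL
  exact ⟨_, h.line_conj hL (qcore_le hx), map_conj_le_qcore_sup hL hx,
    (h.map_conj_ne hL hx hxL).symm, h.eblock_eq_sup hL hx hxL⟩

theorem eblock_le_H (hL : IsLine p V H L) : eblock p H L ≤ H :=
  (eblock_le hL).trans (sup_le qcore_le hL.le)

theorem Hyp.block_module (h : Hyp p V H) (hL : IsLine p V H L) :
    Nat.card ↥⁅V, eblock p H L⁆ = p ^ 2 ∧
    ⁅V, eblock p H L⁆ ⊓ (V ⊓ Subgroup.centralizer (eblock p H L : Set G)) = ⊥ ∧
    ⁅V, eblock p H L⁆ ⊔ (V ⊓ Subgroup.centralizer (eblock p H L : Set G)) = V ∧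
    eblock p H L ⊓ Subgroup.centralizer ((⁅V, eblock p H L⁆ : Subgroup G) : Set G) = ⊥ := by
  obtain ⟨M, hM⟩ := h.exists_blockData hL
  obtain ⟨-, h2, h3, h4⟩ := h.plane hL hL hM.line le_sup_right hM.le_qcore hM.ne
  have h5 := h.sup_inf_centralizer_plane hL hL hM.line le_sup_right hM.le_qcore hM.ne
  rw [← h.commutator_sup_eq hL.le hM.line.le, hM.sup_eq] at h2 h3 h4 h5
  exact ⟨h2, h3, h4, h5⟩

theorem Hyp.block_equiv (h : Hyp p V H) (hL : IsLine p V H L) :
    Nonempty (↥(eblock p H L) ≃* SL(2, ZMod p)) := by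
  obtain ⟨M, hM⟩ := h.exists_blockData hL
  rw [← hM.sup_eq]
  exact h.sup_equiv_SL2 hL hL hM.line le_sup_right hM.le_qcore hM.ne

theorem Hyp.card_eblock (h : Hyp p V H) (hL : IsLine p V H L) :
    Nat.card ↥(eblock p H L) = p * (p - 1) * (p + 1) := by
  obtain ⟨e⟩ := h.block_equiv hL
  rw [Nat.card_congr e.toEquiv, Linear.card_SL_two, ZMod.card]

theorem qcore_le_normalizer_eblock (hL : IsLine p V H L) :
    qcore p H ≤ Subgroup.normalizer (eblock p H L : Set G) := by
  intro q hq
  have key : ∀ q' ∈ qcore p H, ∀ l ∈ L, q' * l * q'⁻¹ ∈ eblock p H L := fun q' hq' l hl =>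
    map_conj_le_eblock hq' ⟨l, hl, rfl⟩
  have hle : (eblock p H L).map (MulAut.conj q).toMonoidHom ≤ eblock p H L := by
    rw [Subgroup.map_sup, Subgroup.map_commutator]
    refine sup_le (Subgroup.commutator_le.2 ?_) (Subgroup.map_le_iff_le_comap.2 (key q hq))
    rintro _ ⟨q', hq', rfl⟩ _ ⟨l, hl, rfl⟩
    rw [← map_commutatorElement, commutatorElement_def]
    change q * (q' * l * q'⁻¹ * l⁻¹) * q⁻¹ ∈ _
    rw [show q * (q' * l * q'⁻¹ * l⁻¹) * q⁻¹ =
      ((q * q') * l * (q * q')⁻¹) * (q * l * q⁻¹)⁻¹ by group]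
    exact mul_mem (key _ (mul_mem hq hq') l hl) (inv_mem (key q hq l hl))
  rw [Subgroup.mem_normalizer_iff_map_conj_eq]
  exact Subgroup.eq_of_le_of_card_ge hle
    (by rw [Subgroup.card_map_of_injective (MulAut.conj q).injective])

theorem eblock_commutator_le_inf (hL : IsLine p V H L) :
    ⁅qcore p H, L⁆ ≤ qcore p H ⊓ eblock p H L :=
  le_inf (Modules.commutator_le_of_normalizes (hL.le.trans le_normalizer_qcore)) le_sup_left

/-- In a block, a normal subgroup of order prime to `p` forces `p ≤ 3`. -/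
theorem Hyp.prime_le_three (h : Hyp p V H) (hL : IsLine p V H L) : p = 2 ∨ p = 3 := by
  by_contra hcon
  push Not at hcon
  have h5 : 5 ≤ p := by
    rcases hp.out.eq_two_or_odd' with h2 | ⟨k, hk⟩
    · exact absurd h2 hcon.1
    · have := hp.out.two_le; omega
  obtain ⟨e⟩ := h.block_equiv hL
  obtain ⟨x, hx, hxL⟩ := h.exists_not_centralizing hL
  obtain ⟨l, hl, hlx⟩ : ∃ l ∈ L, l * x ≠ x * l := by
    by_contra hne
    push Not at hne
    exact hxL (Subgroup.mem_centralizer_iff.2 hne)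
  set E := eblock p H L
  set Q := qcore p H
  have hlE : l ∈ E := Subgroup.mem_sup_right hl
  have hzQ : ⁅x, l⁆ ∈ Q :=
    (eblock_commutator_le_inf hL (Subgroup.commutator_mem_commutator hx hl)).1
  have hzE : ⁅x, l⁆ ∈ E :=
    (eblock_commutator_le_inf hL (Subgroup.commutator_mem_commutator hx hl)).2
  haveI hNn : (Q.subgroupOf E).Normal := by
    rw [Subgroup.normal_subgroupOf_iff_le_normalizer_inf]
    exact Modules.normalizes_inf ((eblock_le_H hL).trans le_normalizer_qcore)
      Subgroup.le_normalizer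
  set π := (QuotientGroup.mk' (Subgroup.center SL(2, ZMod p))).comp e.toMonoidHom with hπ
  have hπs : Function.Surjective π :=
    (QuotientGroup.mk'_surjective _).comp e.surjective
  have hsimple : IsSimpleGroup (SL(2, ZMod p) ⧸ Subgroup.center SL(2, ZMod p)) :=
    Linear.isSimpleGroup_PSL_fin 2 le_rfl (fun _ => by rw [Nat.card_zmod]; omega)
  have hcop : (Nat.card ((Q.subgroupOf E).map π)).Coprime p := by
    refine Nat.Coprime.coprime_dvd_left ((Subgroup.card_map_dvd _ _).trans ?_)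
      (qcore_coprime (p := p) (H := H))
    rw [← Subgroup.card_map_of_injective (f := E.subtype) E.subtype_injective,
      Subgroup.subgroupOf_map_subtype]
    exact Subgroup.card_dvd_of_le inf_le_left
  have hbot : (Q.subgroupOf E).map π = ⊥ := by
    rcases hsimple.eq_bot_or_eq_top_of_normal _ (hNn.map π hπs) with h0 | h0
    · exact h0
    exfalso
    rw [h0, Subgroup.card_top] at hcop
    have hc := Linear.card_PSL_two_mul (F := ZMod p)
    rw [ZMod.card] at hc
    have hd : p ∣ Nat.gcd 2 (p - 1) *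
        Nat.card (Matrix.ProjectiveSpecialLinearGroup (Fin 2) (ZMod p)) :=
      hc ▸ Dvd.intro _ (mul_assoc p (p - 1) (p + 1)).symm
    rcases hp.out.dvd_mul.1 hd with h1 | h1
    · have := Nat.le_of_dvd (by norm_num) (h1.trans (Nat.gcd_dvd_left 2 (p - 1))); omega
    · exact (hp.out.coprime_iff_not_dvd.1 hcop.symm) h1
  set z : E := ⟨⁅x, l⁆, hzE⟩
  have hz : e z ∈ Subgroup.center SL(2, ZMod p) := by
    have hm : π z ∈ (Q.subgroupOf E).map π := ⟨z, hzQ, rfl⟩
    rw [hbot, Subgroup.mem_bot] at hm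
    exact (QuotientGroup.eq_one_iff (e z)).1 hm
  have hcomm : Commute ⁅x, l⁆ l := by
    have h1 : e (z * ⟨l, hlE⟩) = e (⟨l, hlE⟩ * z) := by
      rw [map_mul, map_mul]; exact (Subgroup.mem_center_iff.1 hz _).symm
    exact congrArg Subtype.val (e.injective h1)
  have hlp : l ^ p = 1 := (h.elemAb hL.le hL.off).2 l hl
  have hzp : ⁅x, l⁆ ^ p = 1 := by
    have h1 : (⁅x, l⁆ * l) ^ p = 1 := by
      rw [show ⁅x, l⁆ * l = x * l * x⁻¹ by rw [commutatorElement_def]; group, conj_pow, hlp,
        mul_one, mul_inv_cancel]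
    rwa [hcomm.mul_pow, hlp, mul_one] at h1
  have hz1 : ⁅x, l⁆ = 1 := by
    have hco : Nat.Coprime (orderOf ⁅x, l⁆) p := Nat.Coprime.coprime_dvd_left
      ((Subgroup.orderOf_mk ⁅x, l⁆ hzQ) ▸ orderOf_dvd_natCard _) (qcore_coprime (p := p) (H := H))
    exact orderOf_eq_one_iff.1 (Nat.eq_one_of_dvd_coprimes hco dvd_rfl
      (orderOf_dvd_of_pow_eq_one hzp))
  exact hlx (commutatorElement_eq_one_iff_mul_comm.1 hz1).symm

theorem eblock_le_normalizer_commutator (hL : IsLine p V H L) :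
    eblock p H L ≤ Subgroup.normalizer ((⁅qcore p H, L⁆ : Subgroup G) : Set G) := by
  refine sup_le ?_ (Modules.normalizes_commutator (hL.le.trans le_normalizer_qcore))
  exact Subgroup.le_normalizer

theorem Hyp.card_commutator_qcore (h : Hyp p V H) (hL : IsLine p V H L) :
    Nat.card ↥⁅qcore p H, L⁆ * p = Nat.card ↥(eblock p H L) ∧
    (Nat.card ↥⁅qcore p H, L⁆).Coprime p := by
  have hco : (Nat.card ↥⁅qcore p H, L⁆).Coprime p :=
    Nat.Coprime.coprime_dvd_left (Subgroup.card_dvd_of_le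
      ((eblock_commutator_le_inf hL).trans inf_le_left)) (qcore_coprime (p := p) (H := H))
  refine ⟨?_, hco⟩
  have e := Modules.card_sup_mul_card_inf
    (B := L) (V := ⁅qcore p H, L⁆) (le_sup_right.trans (eblock_le_normalizer_commutator hL))
  rw [PSolv.sylow_inf_eq_bot hco (Modules.elemAb_isPGroup (h.elemAb hL.le hL.off)),
    Subgroup.card_bot, mul_one, hL.card, sup_comm] at e
  rw [e, mul_comm]

theorem exists_noncommuting_pair :
    ∃ i j : SL(2, ZMod 3), i ^ 4 = 1 ∧ j ^ 4 = 1 ∧ i * j ≠ j * i := by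
  refine ⟨⟨!![0, -1; 1, 0], by decide⟩, ⟨!![1, 1; 1, -1], by decide⟩, ?_, ?_, ?_⟩ <;>
    decide

/-- The structure of `[Q, L]`. -/
theorem Hyp.commutator_qcore_type (h : Hyp p V H) (hL : IsLine p V H L) :
    (p = 2 ∧ IsPGroup 3 ↥⁅qcore p H, L⁆) ∨
    (p = 3 ∧ IsPGroup 2 ↥⁅qcore p H, L⁆ ∧ ¬ IsMulCommutative ↥⁅qcore p H, L⁆) := by
  obtain ⟨hc, -⟩ := h.card_commutator_qcore hL
  rw [h.card_eblock hL] at hc
  rcases h.prime_le_three hL with rfl | rfl
  · exact Or.inl ⟨rfl, IsPGroup.of_card (n := 1) (by omega)⟩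
  refine Or.inr ⟨rfl, IsPGroup.of_card (n := 3) (by omega), fun hcomm => ?_⟩
  obtain ⟨e⟩ := h.block_equiv hL
  set E := eblock 3 H L
  set R := ⁅qcore 3 H, L⁆
  haveI : (R.subgroupOf E).Normal :=
    (Subgroup.normal_subgroupOf_iff_le_normalizer le_sup_left).2
      (eblock_le_normalizer_commutator hL)
  have hidx : (R.subgroupOf E).index = 3 := by
    have h1 := card_eq_card_mul_relIndex (le_sup_left : R ≤ E)
    rw [h.card_eblock hL] at h1
    have h2 : Nat.card R = 8 := by omega
    rw [h2] at h1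
    norm_num at h1
    change R.relIndex (R ⊔ L) = 3
    omega
  obtain ⟨i, j, hi, hj, hij⟩ := exists_noncommuting_pair
  have hmem : ∀ g : SL(2, ZMod 3), g ^ 4 = 1 → ((e.symm g : E) : G) ∈ R := by
    intro g hg
    have h3 := Subgroup.pow_index_mem (R.subgroupOf E) (e.symm g)
    rw [hidx] at h3
    have h4 : (e.symm g) ^ 4 = 1 := by rw [← map_pow, hg, map_one]
    rw [pow_succ] at h4
    have h5 : e.symm g = ((e.symm g) ^ 3)⁻¹ := eq_inv_of_mul_eq_one_right h4
    rw [h5]
    exact inv_mem h3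
  have h1 := (Modules.comm_iff.1 hcomm) _ (hmem i hi) _ (hmem j hj)
  have h2 : e.symm (i * j) = e.symm (j * i) := Subtype.ext (by rw [map_mul, map_mul]; exact h1)
  exact hij (e.symm.injective h2)

theorem Hyp.eblock_le_normalizer_V (h : Hyp p V H) (hL : IsLine p V H L) :
    eblock p H L ≤ Subgroup.normalizer (V : Set G) := (eblock_le_H hL).trans h.norm

/-- The plane is irreducible under its block. -/
theorem Hyp.block_irreducible (h : Hyp p V H) (hL : IsLine p V H L) {Y : Subgroup G}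
    (hY : Y ≤ ⁅V, eblock p H L⁆) (hYn : eblock p H L ≤ Subgroup.normalizer (Y : Set G))
    (hYb : Y ≠ ⊥) : Y = ⁅V, eblock p H L⁆ := by
  obtain ⟨M, hM⟩ := h.exists_blockData hL
  have key : ∀ A B : Subgroup G, IsLine p V H A → IsLine p V H B → A ≤ qcore p H ⊔ L →
      B ≤ qcore p H ⊔ L → A ≠ B → A ⊔ B = eblock p H L → ⁅V, A⁆ ≤ Y := by
    intro A B hA hB hAQ hBQ hne hsup
    have hYW : Y ≤ ⁅V, A⁆ ⊔ ⁅V, B⁆ := by rwa [← h.commutator_sup_eq hA.le hB.le, hsup]
    have hYV : Y ≤ V := hY.trans (h.commutator_le (eblock_le_H hL))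
    have hfix := Modules.inf_centralizer_ne_bot_of_isPGroup (A := A)
      ((Modules.elemAb_isPGroup h.elem).to_le hYV) hYb ((hsup ▸ le_sup_left).trans hYn)
      (fun a ha => ⟨1, commutatorElement_pow_mem (n := p ^ 1)
        (fun b hb => by rw [pow_one]; exact (h.elemAb hA.le hA.off).2 b hb) ha Y⟩)
    obtain ⟨y, hy, hy1⟩ := (Subgroup.bot_or_exists_ne_one _).resolve_left hfix
    obtain ⟨hyY, hyA⟩ := Subgroup.mem_inf.1 hy
    have hn : ⁅V, A⁆ ≤ Subgroup.normalizer ((⁅V, B⁆ : Subgroup G) : Set G) :=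
      (h.commutator_le hA.le).trans ((Modules.comm_le_centralizer h.elem.1).trans
        ((Subgroup.centralizer_le (h.commutator_le hB.le)).trans
          (Subgroup.centralizer_le_normalizer _)))
    obtain ⟨a, ha, b, hb, rfl⟩ := Coprime.exists_mul_of_mem_sup hn (hYW hyY)
    have hb1 : b ∈ ⁅V, B⁆ ⊓ Subgroup.centralizer (A : Set G) := Subgroup.mem_inf.2
      ⟨hb, (Subgroup.mul_mem_cancel_left _ (h.line_commutator_le_centralizer hA ha)).1 hyA⟩
    rw [h.line_pair hL hB hA hBQ hAQ hne.symm, Subgroup.mem_bot] at hb1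
    subst hb1
    rw [mul_one] at hyY hy1
    rw [← zpowers_eq_of_card (h.line_data hA.le hA.off hA.card).1 ha hy1]
    exact Subgroup.zpowers_le.2 hyY
  refine le_antisymm hY ?_
  rw [← hM.sup_eq, h.commutator_sup_eq hL.le hM.line.le]
  exact sup_le (key L M hL hM.line le_sup_right hM.le_qcore hM.ne hM.sup_eq)
    (key M L hM.line hL hM.le_qcore le_sup_right hM.ne.symm (sup_comm M L ▸ hM.sup_eq))

theorem Hyp.eq_bot_of_centralizes_plane (h : Hyp p V H) (hL : IsLine p V H L) {X : Subgroup G}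
    (hX : X ≤ eblock p H L)
    (hW : X ≤ Subgroup.centralizer ((⁅V, eblock p H L⁆ : Subgroup G) : Set G)) : X = ⊥ :=
  le_bot_iff.1 ((h.block_module hL).2.2.2 ▸ le_inf hX hW)

theorem Hyp.commutator_qcore_ne_bot (h : Hyp p V H) (hL : IsLine p V H L) :
    ⁅qcore p H, L⁆ ≠ ⊥ := by
  intro hb
  obtain ⟨x, hx, hxL⟩ := h.exists_not_centralizing hL
  exact hxL ((Subgroup.commutator_eq_bot_iff_le_centralizer.1 hb) hx)

/-- `[Q, L]` has no fixed points on the plane. -/
theorem Hyp.centralizer_commutator_qcore (h : Hyp p V H) (hL : IsLine p V H L) :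
    V ⊓ Subgroup.centralizer ((⁅qcore p H, L⁆ : Subgroup G) : Set G) =
      V ⊓ Subgroup.centralizer (eblock p H L : Set G) := by
  obtain ⟨-, -, hsup, -⟩ := h.block_module hL
  set E := eblock p H L
  set R := ⁅qcore p H, L⁆
  set C := V ⊓ Subgroup.centralizer (E : Set G) with hC
  set W := ⁅V, E⁆
  have hCR : C ≤ V ⊓ Subgroup.centralizer (R : Set G) :=
    inf_le_inf_left _ (Subgroup.centralizer_le (SetLike.coe_subset_coe.2 le_sup_left))
  refine le_antisymm (fun z hz => ?_) hCR
  obtain ⟨hzV, hzR⟩ := Subgroup.mem_inf.1 hz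
  have hn : W ≤ Subgroup.normalizer (C : Set G) :=
    (h.commutator_le (eblock_le_H hL)).trans ((Modules.comm_le_centralizer h.elem.1).trans
      ((Subgroup.centralizer_le (SetLike.coe_subset_coe.2 (inf_le_left : C ≤ V))).trans
        (Subgroup.centralizer_le_normalizer _)))
  obtain ⟨w, hw, c, hc, rfl⟩ := Coprime.exists_mul_of_mem_sup hn (hsup.symm ▸ hzV)
  have hwR : w ∈ W ⊓ Subgroup.centralizer (R : Set G) :=
    Subgroup.mem_inf.2 ⟨hw, (Subgroup.mul_mem_cancel_right _ (hCR hc).2).1 hzR⟩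
  have hbot : W ⊓ Subgroup.centralizer (R : Set G) = ⊥ := by
    by_contra hne
    have h1 := h.block_irreducible hL inf_le_left (Modules.normalizes_inf
      (Modules.normalizes_commutator (h.eblock_le_normalizer_V hL))
      (Modules.normalizes_centralizer (eblock_le_normalizer_commutator hL))) hne
    exact h.commutator_qcore_ne_bot hL (h.eq_bot_of_centralizes_plane hL le_sup_left
      (Subgroup.le_centralizer_iff.1 (inf_eq_left.1 h1)))
  rw [hbot, Subgroup.mem_bot] at hwR
  rw [hwR, one_mul]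
  exact hc

/-- `[Q, L]` normalizes no subgroup of order `p` of the plane. -/
theorem Hyp.no_invariant_point (h : Hyp p V H) (hL : IsLine p V H L) {T : Subgroup G}
    (hT : T ≤ ⁅V, eblock p H L⁆) (hTc : Nat.card T = p)
    (hTn : ⁅qcore p H, L⁆ ≤ Subgroup.normalizer (T : Set G)) : False := by
  set R := ⁅qcore p H, L⁆
  set W := ⁅V, eblock p H L⁆
  obtain ⟨t, ht1, -, htT⟩ := exists_gen_of_card hTc
  have htmem : t ∈ T := htT ▸ Subgroup.mem_zpowers t
  have hact : ∀ r ∈ R, ∃ i : ℕ, r * t * r⁻¹ = t ^ i := by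
    intro r hr
    have hrt := (Subgroup.mem_normalizer_iff.1 (hTn hr) t).1 htmem
    rw [← htT] at hrt
    obtain ⟨i, hi⟩ := mem_powers_iff_mem_zpowers.2 hrt
    exact ⟨i, hi.symm⟩
  have hcent : ∀ r ∈ R, r * t * r⁻¹ = t → r ∈ Subgroup.centralizer (T : Set G) := by
    intro r _ hr
    rw [← htT, Modules.centralizer_zpowers_eq, Subgroup.mem_centralizer_singleton_iff]
    exact mul_inv_eq_iff_eq_mul.1 hr
  rcases h.prime_le_three hL with rfl | rfl
  · have hTW : T ≤ V ⊓ Subgroup.centralizer (R : Set G) := by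
      refine le_inf (hT.trans (h.commutator_le (eblock_le_H hL)))
        (Subgroup.le_centralizer_iff.1 fun r hr => hcent r hr ?_)
      obtain ⟨i, hi⟩ := hact r hr
      have ht2 : t ^ 2 = 1 := by
        have := (Modules.elemAb_of_card_eq_prime hTc).2 t htmem; exact this
      rw [hi, pow_eq_pow_mod i ht2]
      rcases Nat.mod_two_eq_zero_or_one i with h0 | h0
      · exfalso
        rw [pow_eq_pow_mod i ht2, h0, pow_zero, conj_eq_one_iff] at hi
        exact ht1 hi
      · rw [h0, pow_one]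
    rw [h.centralizer_commutator_qcore hL] at hTW
    have : T ≤ ⊥ := (h.block_module hL).2.1 ▸ le_inf hT hTW
    rw [le_bot_iff] at this
    rw [this, Subgroup.card_bot] at hTc
    omega
  · have hD : ⁅R, R⁆ ≤ Subgroup.centralizer (T : Set G) := by
      rw [Subgroup.commutator_le]
      intro a ha b hb
      obtain ⟨i, hi⟩ := hact a ha
      obtain ⟨j, hj⟩ := hact b hb
      have e1 : (a * b) * t * (a * b)⁻¹ = t ^ (i * j) := by
        rw [show (a * b) * t * (a * b)⁻¹ = a * (b * t * b⁻¹) * a⁻¹ by group, hj, ← conj_pow, hi,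
          ← pow_mul]
      have e2 : (b * a) * t * (b * a)⁻¹ = t ^ (i * j) := by
        rw [show (b * a) * t * (b * a)⁻¹ = b * (a * t * a⁻¹) * b⁻¹ by group, hi, ← conj_pow, hj,
          ← pow_mul, mul_comm]
      refine hcent _ (by rw [commutatorElement_def];
                         exact mul_mem (mul_mem (mul_mem ha hb) (inv_mem ha)) (inv_mem hb)) ?_
      have e3 : (b * a) * t * (b * a)⁻¹ = (a * b) * t * (a * b)⁻¹ := e2.trans e1.symm
      have e4 : (b * a)⁻¹ * t * (b * a) = (b * a)⁻¹ * t * (b * a) := rfl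
      have e5 : (a * b) * ((b * a)⁻¹ * t * (b * a)) * (a * b)⁻¹ = t := by
        have hs : (b * a)⁻¹ * t * (b * a) ∈ T :=
          (Subgroup.mem_normalizer_iff''.1 (hTn (mul_mem hb ha)) t).1 htmem
        rw [← htT] at hs
        obtain ⟨k, hk⟩ := mem_powers_iff_mem_zpowers.2 hs
        rw [show (b * a)⁻¹ * t * (b * a) = t ^ k from hk.symm, ← conj_pow, ← e3, conj_pow,
          show t ^ k = (b * a)⁻¹ * t * (b * a) from hk]
        group
      rw [commutatorElement_def]
      calc a * b * a⁻¹ * b⁻¹ * t * (a * b * a⁻¹ * b⁻¹)⁻¹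
          = (a * b) * ((b * a)⁻¹ * t * (b * a)) * (a * b)⁻¹ := by group
        _ = t := e5
    have hEn : eblock 3 H L ≤ Subgroup.normalizer ((⁅R, R⁆ : Subgroup G) : Set G) := by
      intro g hg
      rw [Subgroup.mem_normalizer_iff_map_conj_eq, Subgroup.map_commutator]
      exact congrArg₂ (fun A B => ⁅A, B⁆) (map_conj_eq (eblock_le_normalizer_commutator hL hg))
        (map_conj_eq (eblock_le_normalizer_commutator hL hg))
    have hne : W ⊓ Subgroup.centralizer ((⁅R, R⁆ : Subgroup G) : Set G) ≠ ⊥ := by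
      intro hb
      have : T ≤ ⊥ := hb ▸ le_inf hT (Subgroup.le_centralizer_iff.1 hD)
      rw [le_bot_iff] at this
      rw [this, Subgroup.card_bot] at hTc
      omega
    have h1 := h.block_irreducible hL inf_le_left (Modules.normalizes_inf
      (Modules.normalizes_commutator (h.eblock_le_normalizer_V hL))
      (Modules.normalizes_centralizer hEn)) hne
    have h2 := h.eq_bot_of_centralizes_plane hL
      ((Subgroup.commutator_le.2 fun a ha b hb => by
        rw [commutatorElement_def]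
        exact mul_mem (mul_mem (mul_mem (Subgroup.mem_sup_left ha) (Subgroup.mem_sup_left hb))
          (inv_mem (Subgroup.mem_sup_left ha))) (inv_mem (Subgroup.mem_sup_left hb))) :
        ⁅R, R⁆ ≤ eblock 3 H L)
      (Subgroup.le_centralizer_iff.1 (inf_eq_left.1 h1))
    rcases h.commutator_qcore_type hL with ⟨h3, -⟩ | ⟨-, -, hna⟩
    · omega
    · exact hna (Subgroup.le_centralizer_iff_isMulCommutative.1
        (Subgroup.commutator_eq_bot_iff_le_centralizer.1 h2))

end Cfsg.Agent.FF
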