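import Cfsg.Agent.FF.Basic

/-!
Failure of factorization: best offenders of order `p` ("lines") and their conjugates under the
`p'`-core.
-/

set_option autoImplicit false

open Cfsg
open scoped commutatorElement

namespace Cfsg.Agent.FF

variable {p : ℕ} {G : Type*} [Group G] {V H L M N : Subgroup G}

/-- A best offender of order `p`. -/
structure IsLine (p : ℕ) {G : Type*} [Group G] (V H L : Subgroup G) : Prop where
  le : L ≤ H
  off : IsBestOffenderOn p V L
  card : Nat.card L = p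

theorem map_conj_eq {g : G} {X : Subgroup G} (hg : g ∈ Subgroup.normalizer (X : Set G)) :
    X.map (MulAut.conj g).toMonoidHom = X :=
  Subgroup.mem_normalizer_iff_map_conj_eq.1 hg

theorem map_conj_inf_centralizer {g : G} (hg : g ∈ Subgroup.normalizer (V : Set G))
    (X : Subgroup G) :
    (V ⊓ Subgroup.centralizer (X : Set G)).map (MulAut.conj g).toMonoidHom =
      V ⊓ Subgroup.centralizer
        ((X.map (MulAut.conj g).toMonoidHom : Subgroup G) : Set G) := by
  rw [Subgroup.map_inf _ _ _ (MulAut.conj g).injective, PSolv.map_centralizer_equiv,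
    map_conj_eq hg]

theorem map_conj_commutator {g : G} (hg : g ∈ Subgroup.normalizer (V : Set G)) (X : Subgroup G) :
    (⁅V, X⁆).map (MulAut.conj g).toMonoidHom = ⁅V, X.map (MulAut.conj g).toMonoidHom⁆ := by
  rw [Subgroup.map_commutator, map_conj_eq hg]

theorem Hyp.line_conj [Finite G] [Fact p.Prime] (h : Hyp p V H) (hL : IsLine p V H L) {g : G}
    (hg : g ∈ H) : IsLine p V H (L.map (MulAut.conj g).toMonoidHom) := by
  have hle : L.map (MulAut.conj g).toMonoidHom ≤ H := by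
    rw [← map_conj_eq (Subgroup.le_normalizer hg)]
    exact Subgroup.map_mono hL.le
  have hc : Nat.card (L.map (MulAut.conj g).toMonoidHom) = p := by
    rw [Subgroup.card_map_of_injective (MulAut.conj g).injective, hL.card]
  refine ⟨hle, (h.bestOffender_iff hle).2 ⟨Modules.elemAb_map _ (h.elemAb hL.le hL.off), ?_⟩, hc⟩
  rw [hc, ← map_conj_inf_centralizer (h.norm hg),
    Subgroup.card_map_of_injective (MulAut.conj g).injective]
  conv_rhs => rw [← ((h.bestOffender_iff hL.le).1 hL.off).2, hL.card]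

theorem Hyp.commutator_le (h : Hyp p V H) {X : Subgroup G} (hX : X ≤ H) : ⁅V, X⁆ ≤ V :=
  Modules.commutator_le_of_normalizes (hX.trans h.norm)

theorem commutatorElement_pow_mem {X : Subgroup G} {n : ℕ} (hX : ∀ a ∈ X, a ^ n = 1) {a : G}
    (ha : a ∈ X) (Y : Subgroup G) : a ^ n ∈ Subgroup.centralizer (Y : Set G) := by
  rw [hX a ha]; exact one_mem _

theorem card_prime_cases [Finite G] [Fact p.Prime] {X : Subgroup G} (hX : Nat.card X = p)
    (Y : Subgroup G) : X ⊓ Y = ⊥ ∨ X ≤ Y := by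
  rcases (Nat.dvd_prime (Fact.out : p.Prime)).1
    (hX ▸ Subgroup.card_dvd_of_le (inf_le_left : X ⊓ Y ≤ X)) with h1 | h1
  · exact Or.inl (Subgroup.eq_bot_of_card_eq _ h1)
  · exact Or.inr (inf_eq_left.1 (Subgroup.eq_of_le_of_card_ge inf_le_left (by rw [h1, hX])))

theorem eq_of_le_of_card_prime [Finite G] [Fact p.Prime] {X Y : Subgroup G}
    (hX : Nat.card X = p) (hY : Nat.card Y = p) (h : X ≤ Y) : X = Y :=
  Subgroup.eq_of_le_of_card_ge h (by rw [hX, hY])

theorem Hyp.line_commutator_le_centralizer [Finite G] [Fact p.Prime] (h : Hyp p V H)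
    (hL : IsLine p V H L) : ⁅V, L⁆ ≤ Subgroup.centralizer (L : Set G) := by
  have hU := (h.line_data hL.le hL.off hL.card).1
  rw [← Subgroup.commutator_eq_bot_iff_le_centralizer]
  have hLU : L ≤ Subgroup.normalizer ((⁅V, L⁆ : Subgroup G) : Set G) :=
    Modules.normalizes_commutator (hL.le.trans h.norm)
  rcases (Nat.dvd_prime (Fact.out : p.Prime)).1
    (hU ▸ Subgroup.card_dvd_of_le (Modules.commutator_le_of_normalizes hLU)) with h1 | h1
  · exact Subgroup.eq_bot_of_card_eq _ h1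
  · exfalso
    have heq : ⁅⁅V, L⁆, L⁆ = ⁅V, L⁆ :=
      Subgroup.eq_of_le_of_card_ge (Modules.commutator_le_of_normalizes hLU) (by rw [h1, hU])
    have hb := Coprime.eq_bot_of_commutator_eq
      ((Modules.elemAb_isPGroup h.elem).to_le (h.commutator_le hL.le))
      (Modules.elemAb_isPGroup (h.elemAb hL.le hL.off)) hLU heq
    rw [hb, Subgroup.card_bot] at hU
    exact (Fact.out : p.Prime).ne_one hU.symm

theorem card_pGroup_le [Finite G] [Fact p.Prime] {Q X Y : Subgroup G}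
    (hQ : (Nat.card Q).Coprime p) (hLQ : L ≤ Subgroup.normalizer (Q : Set G))
    (hL : Nat.card L = p) (hXY : X ≤ Y) (hY : Y ≤ Q ⊔ L) (hX : IsPGroup p X) :
    Nat.card X ≤ p := by
  have hd : Nat.card X ∣ p * Nat.card Q := by
    refine (Subgroup.card_dvd_of_le (hXY.trans hY)).trans ?_
    rw [sup_comm, ← hL]
    exact Dvd.intro _ (Modules.card_sup_mul_card_inf hLQ)
  obtain ⟨n, hn⟩ := IsPGroup.iff_card.1 hX
  rw [hn] at hd ⊢
  exact Nat.le_of_dvd (Fact.out : p.Prime).pos
    ((Nat.Coprime.pow_left n hQ.symm).dvd_of_dvd_mul_right hd)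

/-- In `Q ⊔ L` the centre of a conjugate is never fixed by another conjugate. -/
theorem Hyp.line_pair [Finite G] [Fact p.Prime] (h : Hyp p V H) (hL : IsLine p V H L)
    (hM : IsLine p V H M) (hN : IsLine p V H N) (hMQ : M ≤ qcore p H ⊔ L)
    (hNQ : N ≤ qcore p H ⊔ L) (hne : M ≠ N) :
    ⁅V, M⁆ ⊓ Subgroup.centralizer (N : Set G) = ⊥ := by
  rcases card_prime_cases (h.line_data hM.le hM.off hM.card).1
    (Subgroup.centralizer (N : Set G)) with h1 | h1
  · exact h1
  exfalso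
  set W := ⁅V, M⁆ ⊔ ⁅V, N⁆
  have hMV := hM.le.trans h.norm
  have hNV := hN.le.trans h.norm
  have hW : W ≤ V := sup_le (h.commutator_le hM.le) (h.commutator_le hN.le)
  have hNW : W ≤ Subgroup.centralizer (N : Set G) :=
    sup_le h1 (h.line_commutator_le_centralizer hN)
  have hMU : ⁅V, M⁆ ≤ Subgroup.centralizer (M : Set G) := h.line_commutator_le_centralizer hM
  have hMW : (M : Set G) ⊆ Subgroup.normalizer (W : Set G) := by
    refine Subgroup.le_normalizer_iff_commutator_le_left.2 ?_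
    exact (Subgroup.commutator_mono hW le_rfl).trans le_sup_left
  have hNW' : (N : Set G) ⊆ Subgroup.normalizer (W : Set G) :=
    (Subgroup.le_centralizer_iff.1 hNW).trans (Subgroup.centralizer_le_normalizer _)
  have hsub : M ⊔ N ≤ Subgroup.closure ((M : Set G) ∪ (N : Set G)) :=
    (Subgroup.sup_eq_closure M N).le
  have hVX : ⁅V, M ⊔ N⁆ ≤ W := by
    refine Modules.commutator_le_of_closure hsub (Set.union_subset hMW hNW') ?_
    rintro s (hs | hs) v hv
    · exact Subgroup.mem_sup_left (Subgroup.commutator_mem_commutator hv hs)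
    · exact Subgroup.mem_sup_right (Subgroup.commutator_mem_commutator hv hs)
  have hMNU : M ⊔ N ≤ Subgroup.centralizer ((⁅V, M⁆ : Subgroup G) : Set G) :=
    sup_le (Subgroup.le_centralizer_iff.1 hMU) (Subgroup.le_centralizer_iff.1 h1)
  have hWX : ⁅W, M ⊔ N⁆ ≤ ⁅V, M⁆ := by
    refine Modules.commutator_le_of_closure hsub ?_ ?_
    · intro s hs
      exact Subgroup.centralizer_le_normalizer _ (hMNU (Subgroup.closure_le _ |>.1
        (Subgroup.sup_eq_closure M N).ge hs))
    · rintro s (hs | hs) v hv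
      · exact Subgroup.commutator_mem_commutator (hW hv) hs
      · rw [commutatorElement_eq_one_iff_mul_comm.2
          ((Subgroup.mem_centralizer_iff.1 (hNW hv) s hs).symm)]
        exact one_mem _
  have hXp : IsPGroup p ↥(M ⊔ N) := by
    intro x
    have hxV : (x : G) ∈ Subgroup.normalizer (V : Set G) := sup_le hMV hNV x.2
    have hxz : Subgroup.zpowers (x : G) ≤ M ⊔ N := Subgroup.zpowers_le.2 x.2
    have hxW : Subgroup.zpowers (x : G) ≤ Subgroup.normalizer (W : Set G) :=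
      Subgroup.le_normalizer_iff_commutator_le_left.2
        ((Subgroup.commutator_mono hW hxz).trans hVX)
    have q1 : ⁅⁅W, Subgroup.zpowers (x : G)⁆, Subgroup.zpowers (x : G)⁆ = ⊥ := by
      rw [eq_bot_iff, ← Subgroup.commutator_eq_bot_iff_le_centralizer.2
        (Subgroup.le_centralizer_iff.1 hMNU)]
      exact Subgroup.commutator_mono ((Subgroup.commutator_mono le_rfl hxz).trans hWX) hxz
    have hy : (x : G) ^ p ∈ Subgroup.centralizer (W : Set G) :=
      Modules.pow_mem_centralizer_of_quadratic (Modules.elemAb_mono hW h.elem) hxW q1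
        (Subgroup.mem_zpowers _)
    have hyz : Subgroup.zpowers ((x : G) ^ p) ≤ M ⊔ N := Subgroup.zpowers_le.2 (pow_mem x.2 p)
    have q2 : ⁅⁅V, Subgroup.zpowers ((x : G) ^ p)⁆, Subgroup.zpowers ((x : G) ^ p)⁆ = ⊥ := by
      have hz : W ≤ Subgroup.centralizer (Subgroup.zpowers ((x : G) ^ p) : Set G) :=
        Subgroup.le_centralizer_iff.1 (Subgroup.zpowers_le.2 hy)
      rw [eq_bot_iff, ← Subgroup.commutator_eq_bot_iff_le_centralizer.2 hz]
      exact Subgroup.commutator_mono ((Subgroup.commutator_mono le_rfl hyz).trans hVX) le_rfl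
    have hy2 : ((x : G) ^ p) ^ p ∈ Subgroup.centralizer (V : Set G) :=
      Modules.pow_mem_centralizer_of_quadratic h.elem
        (hyz.trans (sup_le hMV hNV)) q2 (Subgroup.mem_zpowers _)
    refine ⟨2, Subtype.ext ?_⟩
    rw [SubgroupClass.coe_pow, pow_two, pow_mul]
    exact Subgroup.mem_bot.1 (h.faith ▸ (⟨pow_mem (pow_mem (sup_le hM.le hN.le x.2) p) p, hy2⟩ :
      ((x : G) ^ p) ^ p ∈ H ⊓ Subgroup.centralizer (V : Set G)))
  have hle := card_pGroup_le qcore_coprime (hL.le.trans le_normalizer_qcore) hL.card le_rfl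
    (sup_le hMQ hNQ) hXp
  have e1 : M = M ⊔ N := Subgroup.eq_of_le_of_card_ge le_sup_left (hle.trans hM.card.ge)
  exact hne (eq_of_le_of_card_prime hN.card hM.card (e1.symm ▸ le_sup_right)).symm

/-- The plane of two distinct conjugates. -/
theorem Hyp.plane [Finite G] [Fact p.Prime] (h : Hyp p V H) (hL : IsLine p V H L)
    (hM : IsLine p V H M) (hN : IsLine p V H N) (hMQ : M ≤ qcore p H ⊔ L)
    (hNQ : N ≤ qcore p H ⊔ L) (hne : M ≠ N) :
    ⁅V, M⁆ ⊓ ⁅V, N⁆ = ⊥ ∧ Nat.card ↥(⁅V, M⁆ ⊔ ⁅V, N⁆) = p ^ 2 ∧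
    (⁅V, M⁆ ⊔ ⁅V, N⁆) ⊓ (V ⊓ Subgroup.centralizer ((M ⊔ N : Subgroup G) : Set G)) = ⊥ ∧
    (⁅V, M⁆ ⊔ ⁅V, N⁆) ⊔ (V ⊓ Subgroup.centralizer ((M ⊔ N : Subgroup G) : Set G)) = V := by
  have h1 := h.line_pair hL hM hN hMQ hNQ hne
  have h2 := h.line_pair hL hN hM hNQ hMQ (Ne.symm hne)
  have hcM := h.line_commutator_le_centralizer hM
  have hcN := h.line_commutator_le_centralizer hN
  have hd : ⁅V, M⁆ ⊓ ⁅V, N⁆ = ⊥ := le_bot_iff.1 (h1 ▸ inf_le_inf_left _ hcN)
  have hMV := h.commutator_le hM.le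
  have hNV := h.commutator_le hN.le
  have hn : ⁅V, M⁆ ≤ Subgroup.normalizer ((⁅V, N⁆ : Subgroup G) : Set G) :=
    hMV.trans ((Modules.comm_le_centralizer h.elem.1).trans
      ((Subgroup.centralizer_le hNV).trans (Subgroup.centralizer_le_normalizer _)))
  have hcard : Nat.card ↥(⁅V, M⁆ ⊔ ⁅V, N⁆) = p ^ 2 := by
    have e := Modules.card_sup_mul_card_inf hn
    rw [hd, Subgroup.card_bot, mul_one, (h.line_data hM.le hM.off hM.card).1,
      (h.line_data hN.le hN.off hN.card).1] at e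
    rw [e, sq]
  set P := ⁅V, M⁆ ⊔ ⁅V, N⁆
  set C := V ⊓ Subgroup.centralizer ((M ⊔ N : Subgroup G) : Set G)
  have hdisj : P ⊓ C = ⊥ := by
    rw [eq_bot_iff]
    intro z hz
    obtain ⟨hzP, hzC⟩ := Subgroup.mem_inf.1 hz
    have hzM : z ∈ Subgroup.centralizer (M : Set G) :=
      Subgroup.centralizer_le (SetLike.coe_subset_coe.2 le_sup_left) hzC.2
    have hzN : z ∈ Subgroup.centralizer (N : Set G) :=
      Subgroup.centralizer_le (SetLike.coe_subset_coe.2 le_sup_right) hzC.2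
    obtain ⟨a, ha, b, hb, rfl⟩ := Coprime.exists_mul_of_mem_sup hn hzP
    have ha1 : a ∈ ⁅V, M⁆ ⊓ Subgroup.centralizer (N : Set G) :=
      Subgroup.mem_inf.2 ⟨ha, (Subgroup.mul_mem_cancel_right _ (hcN hb)).1 hzN⟩
    rw [h1, Subgroup.mem_bot] at ha1
    subst ha1
    rw [one_mul] at hzM ⊢
    exact h2 ▸ Subgroup.mem_inf.2 ⟨hb, hzM⟩
  refine ⟨hd, hcard, hdisj, Subgroup.eq_of_le_of_card_ge (sup_le (sup_le hMV hNV) inf_le_left) ?_⟩
  have hiM := (h.line_data hM.le hM.off hM.card).2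
  have hiN := (h.line_data hN.le hN.off hN.card).2
  have hCeq : C = (V ⊓ Subgroup.centralizer (M : Set G)) ⊓
      (V ⊓ Subgroup.centralizer (N : Set G)) := by
    refine le_antisymm (le_inf (inf_le_inf_left _ (Subgroup.centralizer_le
      (SetLike.coe_subset_coe.2 le_sup_left))) (inf_le_inf_left _ (Subgroup.centralizer_le
      (SetLike.coe_subset_coe.2 le_sup_right)))) (le_inf (inf_le_left.trans inf_le_left) ?_)
    rw [Subgroup.le_centralizer_iff]
    exact sup_le (Subgroup.le_centralizer_iff.1 (inf_le_left.trans inf_le_right))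
      (Subgroup.le_centralizer_iff.1 (inf_le_right.trans inf_le_right))
  have hCi : C.relIndex V ≤ p * p := by
    rw [hCeq]
    exact (Subgroup.relIndex_inf_le).trans (by rw [hiM, hiN])
  have hPC : P ≤ Subgroup.normalizer (C : Set G) :=
    (sup_le hMV hNV).trans ((Modules.comm_le_centralizer h.elem.1).trans
      ((Subgroup.centralizer_le (SetLike.coe_subset_coe.2 (inf_le_left : C ≤ V))).trans
        (Subgroup.centralizer_le_normalizer _)))
  have e := Modules.card_sup_mul_card_inf hPC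
  rw [hdisj, Subgroup.card_bot, mul_one, hcard] at e
  rw [e, sq, card_eq_card_mul_relIndex (inf_le_left : C ≤ V), mul_comm (p * p)]
  exact Nat.mul_le_mul_left _ hCi

/-- Every point of the plane of two conjugates is the centre of a conjugate inside their join. -/
theorem Hyp.exists_line_center [Finite G] [Fact p.Prime] (h : Hyp p V H) (hL : IsLine p V H L)
    (hM : IsLine p V H M) (hN : IsLine p V H N) (hMQ : M ≤ qcore p H ⊔ L)
    (hNQ : N ≤ qcore p H ⊔ L) (hne : M ≠ N) {z : G} (hz : z ∈ ⁅V, M⁆ ⊔ ⁅V, N⁆) :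
    ∃ R : Subgroup G, IsLine p V H R ∧ R ≤ M ⊔ N ∧ z ∈ ⁅V, R⁆ := by
  have hNV := h.commutator_le hN.le
  have hMV := h.commutator_le hM.le
  have hn : ⁅V, M⁆ ≤ Subgroup.normalizer ((⁅V, N⁆ : Subgroup G) : Set G) :=
    hMV.trans ((Modules.comm_le_centralizer h.elem.1).trans
      ((Subgroup.centralizer_le hNV).trans (Subgroup.centralizer_le_normalizer _)))
  obtain ⟨a, ha, b, hb, rfl⟩ := Coprime.exists_mul_of_mem_sup hn hz
  by_cases ha1 : a = 1
  · subst ha1
    exact ⟨N, hN, le_sup_right, by rwa [one_mul]⟩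
  have hU := (h.line_data hN.le hN.off hN.card).1
  have hnc : ¬ N ≤ Subgroup.centralizer ({a} : Set G) := by
    intro hc
    have hmem : a ∈ Subgroup.centralizer (N : Set G) :=
      Subgroup.mem_centralizer_iff.2 fun n hn' =>
        Subgroup.mem_centralizer_singleton_iff.1 (hc hn')
    have h0 : a ∈ ⁅V, M⁆ ⊓ Subgroup.centralizer (N : Set G) := Subgroup.mem_inf.2 ⟨ha, hmem⟩
    rw [h.line_pair hL hM hN hMQ hNQ hne, Subgroup.mem_bot] at h0
    exact ha1 h0
  obtain ⟨n, hnN, hn1⟩ : ∃ n ∈ N, n ∉ Subgroup.centralizer ({a} : Set G) :=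
    SetLike.not_le_iff_exists.1 hnc
  have hc1 : ⁅a, n⁆ ∈ ⁅V, N⁆ := Subgroup.commutator_mem_commutator (hMV ha) hnN
  have hc2 : ⁅a, n⁆ ≠ 1 := fun h0 => hn1
    (Subgroup.mem_centralizer_singleton_iff.2 (commutatorElement_eq_one_iff_mul_comm.1 h0).symm)
  have hgen : Subgroup.zpowers ⁅a, n⁆ = ⁅V, N⁆ := by
    refine Subgroup.eq_of_le_of_card_ge (Subgroup.zpowers_le.2 hc1) ?_
    rcases (Nat.dvd_prime (Fact.out : p.Prime)).1
      (hU ▸ Subgroup.card_dvd_of_le (Subgroup.zpowers_le.2 hc1)) with h0 | h0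
    · exact absurd (Subgroup.mem_bot.1 ((Subgroup.eq_bot_of_card_eq _ h0) ▸
        Subgroup.mem_zpowers ⁅a, n⁆)) hc2
    · rw [h0, hU]
  obtain ⟨i, hi⟩ : ∃ i : ℕ, ⁅a, n⁆ ^ i = b⁻¹ :=
    (mem_powers_iff_mem_zpowers.2 (hgen.symm ▸ inv_mem hb))
  have hq : ⁅⁅V, N⁆, N⁆ = ⊥ :=
    Subgroup.commutator_eq_bot_iff_le_centralizer.2 (h.line_commutator_le_centralizer hN)
  refine ⟨M.map (MulAut.conj (n ^ i)).toMonoidHom, h.line_conj hM (pow_mem (hN.le hnN) i), ?_, ?_⟩
  · refine Subgroup.map_le_iff_le_comap.2 fun m hm => ?_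
    exact mul_mem (mul_mem (Subgroup.mem_sup_right (pow_mem hnN i)) (Subgroup.mem_sup_left hm))
      (inv_mem (Subgroup.mem_sup_right (pow_mem hnN i)))
  · rw [← map_conj_commutator (h.norm (pow_mem (hN.le hnN) i))]
    refine ⟨a, ha, ?_⟩
    have e := Modules.commutatorElement_pow_of_quadratic hq (hMV ha) hnN i
    rw [hi, commutatorElement_def] at e
    change n ^ i * a * (n ^ i)⁻¹ = a * b
    have e2 : n ^ i * a⁻¹ * (n ^ i)⁻¹ = a⁻¹ * b⁻¹ := by rw [← e]; group
    have e3 := congrArg (·⁻¹) e2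
    simp only [mul_inv_rev, inv_inv] at e3
    rw [← mul_assoc] at e3
    rw [e3]
    exact Modules.elemAb_comm h.elem (hNV hb) (hMV ha)

/-- Every conjugate of `L` lies in the join of two distinct conjugates. -/
theorem Hyp.line_le_sup [Finite G] [Fact p.Prime] (h : Hyp p V H) (hL : IsLine p V H L)
    (hM : IsLine p V H M) (hN : IsLine p V H N) (hMQ : M ≤ qcore p H ⊔ L)
    (hNQ : N ≤ qcore p H ⊔ L) (hne : M ≠ N) {R : Subgroup G} (hR : IsLine p V H R)
    (hRQ : R ≤ qcore p H ⊔ L) : R ≤ M ⊔ N := by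
  obtain ⟨-, hcard, -, -⟩ := h.plane hL hM hN hMQ hNQ hne
  set P := ⁅V, M⁆ ⊔ ⁅V, N⁆
  set C := V ⊓ Subgroup.centralizer (R : Set G)
  obtain ⟨z, hz, hz1⟩ : ∃ z ∈ P ⊓ C, z ≠ 1 := by
    refine (Subgroup.bot_or_exists_ne_one (P ⊓ C)).resolve_left fun hb => ?_
    have hi := (h.line_data hR.le hR.off hR.card).2
    have hle : C.relIndex P ≤ p := hi ▸ Subgroup.relIndex_le_of_le_right
      (sup_le (h.commutator_le hM.le) (h.commutator_le hN.le))
      (hi ▸ (Fact.out : p.Prime).ne_zero)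
    have e := card_eq_card_mul_relIndex (inf_le_left : P ⊓ C ≤ P)
    rw [hb, Subgroup.card_bot, one_mul, hcard, ← hb, Subgroup.inf_relIndex_left] at e
    have hp := (Fact.out : p.Prime).one_lt
    nlinarith [e, hle]
  obtain ⟨hzP, -, hzR⟩ : z ∈ P ∧ z ∈ V ∧ z ∈ Subgroup.centralizer (R : Set G) := hz
  obtain ⟨R', hR', hR'le, hzR'⟩ := h.exists_line_center hL hM hN hMQ hNQ hne hzP
  by_contra hnle
  have hne' : R' ≠ R := fun h' => hnle (h' ▸ hR'le)
  have h0 : z ∈ ⁅V, R'⁆ ⊓ Subgroup.centralizer (R : Set G) := Subgroup.mem_inf.2 ⟨hzR', hzR⟩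
  rw [h.line_pair hL hR' hR (hR'le.trans (sup_le hMQ hNQ)) hRQ hne', Subgroup.mem_bot] at h0
  exact hz1 h0

/-- The block of a line. -/
abbrev eblock (p : ℕ) {G : Type*} [Group G] (H L : Subgroup G) : Subgroup G :=
  ⁅qcore p H, L⁆ ⊔ L

theorem eblock_le (hL : IsLine p V H L) : eblock p H L ≤ qcore p H ⊔ L :=
  sup_le_sup_right (Modules.commutator_le_of_normalizes (hL.le.trans le_normalizer_qcore)) L

theorem map_conj_le_qcore_sup (hL : IsLine p V H L) {q : G} (hq : q ∈ qcore p H) :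
    L.map (MulAut.conj q).toMonoidHom ≤ qcore p H ⊔ L :=
  Subgroup.map_le_iff_le_comap.2 fun _ hl =>
    mul_mem (mul_mem (Subgroup.mem_sup_left hq) (Subgroup.mem_sup_right hl))
      (inv_mem (Subgroup.mem_sup_left hq))

theorem map_conj_le_eblock {q : G} (hq : q ∈ qcore p H) :
    L.map (MulAut.conj q).toMonoidHom ≤ eblock p H L :=
  Subgroup.map_le_iff_le_comap.2 fun l hl => by
    change q * l * q⁻¹ ∈ eblock p H L
    rw [show q * l * q⁻¹ = ⁅q, l⁆ * l by rw [commutatorElement_def]; group]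
    exact mul_mem (Subgroup.mem_sup_left (Subgroup.commutator_mem_commutator hq hl))
      (Subgroup.mem_sup_right hl)

theorem Hyp.map_conj_ne [Finite G] [Fact p.Prime] (h : Hyp p V H) (hL : IsLine p V H L) {x : G}
    (hx : x ∈ qcore p H) (hxL : x ∉ Subgroup.centralizer (L : Set G)) :
    L.map (MulAut.conj x).toMonoidHom ≠ L := by
  intro he
  apply hxL
  rw [Subgroup.mem_centralizer_iff]
  intro l hl
  have h1 : ⁅x, l⁆ ∈ qcore p H :=
    Modules.commutator_le_of_normalizes (hL.le.trans le_normalizer_qcore)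
      (Subgroup.commutator_mem_commutator hx hl)
  have h2 : ⁅x, l⁆ ∈ L := by
    have hm : x * l * x⁻¹ ∈ L := he ▸ (⟨l, hl, rfl⟩ : x * l * x⁻¹ ∈ L.map (MulAut.conj x).toMonoidHom)
    rw [commutatorElement_def]
    exact mul_mem hm (inv_mem hl)
  have h3 := PSolv.sylow_inf_eq_bot (qcore_coprime (p := p) (H := H))
    (Modules.elemAb_isPGroup (h.elemAb hL.le hL.off))
  exact (commutatorElement_eq_one_iff_mul_comm.1
    (Subgroup.mem_bot.1 (h3 ▸ Subgroup.mem_inf.2 ⟨h2, h1⟩))).symm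

/-- `[Q, L] L` is generated by `L` and any conjugate of `L` by an element of `Q` not centralizing it. -/
theorem Hyp.eblock_eq_sup [Finite G] [Fact p.Prime] (h : Hyp p V H) (hL : IsLine p V H L) {x : G}
    (hx : x ∈ qcore p H) (hxL : x ∉ Subgroup.centralizer (L : Set G)) :
    L ⊔ L.map (MulAut.conj x).toMonoidHom = eblock p H L := by
  refine le_antisymm (sup_le le_sup_right (map_conj_le_eblock hx)) (sup_le ?_ le_sup_left)
  have hM := h.line_conj hL (qcore_le hx)
  have key : ∀ q ∈ qcore p H,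
      L.map (MulAut.conj q).toMonoidHom ≤ L ⊔ L.map (MulAut.conj x).toMonoidHom := fun q hq =>
    h.line_le_sup hL hL hM le_sup_right (map_conj_le_qcore_sup hL hx)
      (h.map_conj_ne hL hx hxL).symm (h.line_conj hL (qcore_le hq)) (map_conj_le_qcore_sup hL hq)
  rw [Subgroup.commutator_le]
  intro q hq l hl
  rw [show ⁅q, l⁆ = (q * l * q⁻¹) * l⁻¹ from commutatorElement_def q l]
  exact mul_mem (key q hq ⟨l, hl, rfl⟩) (Subgroup.mem_sup_left (inv_mem hl))

theorem Hyp.exists_not_centralizing [Finite G] [Fact p.Prime] (h : Hyp p V H)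
    (hL : IsLine p V H L) : ∃ x ∈ qcore p H, x ∉ Subgroup.centralizer (L : Set G) := by
  apply SetLike.not_le_iff_exists.1
  intro hle
  have h1 := h.inf_centralizer_qcore hL.le (Modules.elemAb_isPGroup (h.elemAb hL.le hL.off))
  rw [inf_eq_left.2 (Subgroup.le_centralizer_iff.1 hle)] at h1
  have h2 := hL.card
  rw [h1, Subgroup.card_bot] at h2
  exact (Fact.out : p.Prime).ne_one h2.symm

end Cfsg.Agent.FF
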