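import Cfsg.Agent.FF.Line
import Cfsg.Agent.Linear.GLTwo
import Mathlib.Data.ZMod.Basic

/-!
Failure of factorization: two distinct conjugate lines generate `SL(2, p)` on their plane.
-/

set_option autoImplicit false

open Cfsg
open scoped commutatorElement MatrixGroups

namespace Cfsg.Agent.FF

variable {p : ℕ} [hp : Fact p.Prime] {G : Type*} [Group G]

/-- `u ^ i * w ^ j`. -/
def coord (u w : G) (i j : ZMod p) : G := u ^ i.val * w ^ j.val

/-- `g` acts on the plane spanned by `u`, `w` by the matrix `m`. -/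
def Rep (u w g : G) (m : Matrix (Fin 2) (Fin 2) (ZMod p)) : Prop :=
  g * u * g⁻¹ = coord u w (m 0 0) (m 1 0) ∧ g * w * g⁻¹ = coord u w (m 0 1) (m 1 1)

theorem pow_val_add {u : G} (hu : u ^ p = 1) (i j : ZMod p) :
    u ^ (i + j).val = u ^ i.val * u ^ j.val := by
  rw [← pow_add, ZMod.val_add, ← pow_eq_pow_mod _ hu]

theorem pow_val_natCast {u : G} (hu : u ^ p = 1) (n : ℕ) : u ^ (n : ZMod p).val = u ^ n := by
  rw [ZMod.val_natCast, ← pow_eq_pow_mod _ hu]

section coord

variable {u w : G} (hu : u ^ p = 1) (hw : w ^ p = 1) (huw : Commute u w)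

include hu hw huw

omit huw in
theorem coord_zero_zero : coord u w (0 : ZMod p) 0 = 1 := by simp [coord]

theorem coord_add (i j k l : ZMod p) :
    coord u w (i + k) (j + l) = coord u w i j * coord u w k l := by
  simp only [coord, pow_val_add hu, pow_val_add hw]
  calc u ^ i.val * u ^ k.val * (w ^ j.val * w ^ l.val)
      = u ^ i.val * (u ^ k.val * w ^ j.val) * w ^ l.val := by group
    _ = u ^ i.val * (w ^ j.val * u ^ k.val) * w ^ l.val := by rw [(huw.pow_pow _ _).eq]
    _ = _ := by group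

theorem coord_pow (i j : ZMod p) (n : ℕ) :
    coord u w i j ^ n = coord u w ((n : ZMod p) * i) ((n : ZMod p) * j) := by
  induction n with
  | zero => simp [coord]
  | succ n ih =>
    rw [pow_succ, ih, ← coord_add hu hw huw, Nat.cast_succ, add_mul, add_mul, one_mul, one_mul]

theorem coord_one_zero : coord u w (1 : ZMod p) 0 = u := by
  simp [coord, ZMod.val_one]

theorem coord_zero_one : coord u w (0 : ZMod p) 1 = w := by
  simp [coord, ZMod.val_one]

theorem coord_inj (hd : Subgroup.zpowers u ⊓ Subgroup.zpowers w = ⊥) (hu1 : u ≠ 1) (hw1 : w ≠ 1)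
    {i j k l : ZMod p} (h : coord u w i j = coord u w k l) : i = k ∧ j = l := by
  have h0 : coord u w (i - k) (j - l) = 1 := by
    have e := coord_add hu hw huw (i - k) (j - l) k l
    rw [sub_add_cancel, sub_add_cancel, h] at e
    exact mul_eq_right.1 e.symm
  have hmem : u ^ (i - k).val ∈ Subgroup.zpowers u ⊓ Subgroup.zpowers w := by
    refine Subgroup.mem_inf.2 ⟨Subgroup.pow_mem _ (Subgroup.mem_zpowers u) _, ?_⟩
    rw [eq_inv_of_mul_eq_one_left h0]
    exact inv_mem (Subgroup.pow_mem _ (Subgroup.mem_zpowers w) _)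
  rw [hd, Subgroup.mem_bot] at hmem
  have key : ∀ {x : G}, x ^ p = 1 → x ≠ 1 → ∀ t : ZMod p, x ^ t.val = 1 → t = 0 := by
    intro x hx hx1 t ht
    have hd' := orderOf_dvd_of_pow_eq_one ht
    rw [orderOf_eq_prime hx hx1] at hd'
    exact (ZMod.val_eq_zero t).1 (Nat.eq_zero_of_dvd_of_lt hd' (ZMod.val_lt t))
  refine ⟨sub_eq_zero.1 (key hu hu1 _ hmem), sub_eq_zero.1 (key hw hw1 _ ?_)⟩
  rw [coord, hmem, one_mul] at h0
  exact h0

theorem Rep.act {g : G} {m : Matrix (Fin 2) (Fin 2) (ZMod p)} (hg : Rep u w g m) (i j : ZMod p) :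
    g * coord u w i j * g⁻¹ = coord u w (m 0 0 * i + m 0 1 * j) (m 1 0 * i + m 1 1 * j) := by
  have e : g * coord u w i j * g⁻¹ = (g * u * g⁻¹) ^ i.val * (g * w * g⁻¹) ^ j.val := by
    rw [conj_pow, conj_pow, coord]; group
  rw [e, hg.1, hg.2, coord_pow hu hw huw, coord_pow hu hw huw, ← coord_add hu hw huw]
  simp only [ZMod.natCast_zmod_val]
  congr 1 <;> ring

theorem Rep.one : Rep u w 1 (1 : Matrix (Fin 2) (Fin 2) (ZMod p)) := by
  constructor
  · simp [coord_one_zero hu hw huw]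
  · simp [coord_zero_one hu hw huw]

theorem Rep.mul {g g' : G} {m m' : Matrix (Fin 2) (Fin 2) (ZMod p)} (hg : Rep u w g m)
    (hg' : Rep u w g' m') : Rep u w (g * g') (m * m') := by
  constructor
  · rw [show g * g' * u * (g * g')⁻¹ = g * (g' * u * g'⁻¹) * g⁻¹ by group, hg'.1,
      Rep.act hu hw huw hg]
    congr 1 <;> simp [Matrix.mul_apply, Fin.sum_univ_two]
  · rw [show g * g' * w * (g * g')⁻¹ = g * (g' * w * g'⁻¹) * g⁻¹ by group, hg'.2,
      Rep.act hu hw huw hg]
    congr 1 <;> simp [Matrix.mul_apply, Fin.sum_univ_two]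

theorem Rep.inv {g : G} {m : SL(2, ZMod p)} (hg : Rep u w g (m : Matrix (Fin 2) (Fin 2) (ZMod p))) :
    Rep u w g⁻¹ ((m⁻¹ : SL(2, ZMod p)) : Matrix (Fin 2) (Fin 2) (ZMod p)) := by
  have hm : (m : Matrix (Fin 2) (Fin 2) (ZMod p)) * ((m⁻¹ : SL(2, ZMod p)) : Matrix _ _ _) = 1 := by
    rw [← Matrix.SpecialLinearGroup.coe_mul, mul_inv_cancel, Matrix.SpecialLinearGroup.coe_one]
  have key : ∀ i j : ZMod p, ∀ z : G, g * coord u w i j * g⁻¹ = z →
      g⁻¹ * z * g⁻¹⁻¹ = coord u w i j := by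
    intro i j z hz; rw [← hz]; group
  have e0 := fun a => congrFun (congrFun hm a) 0
  have e1 := fun a => congrFun (congrFun hm a) 1
  simp only [Matrix.mul_apply, Fin.sum_univ_two, Matrix.one_apply] at e0 e1
  constructor
  · refine key _ _ u ?_
    rw [Rep.act hu hw huw hg, e0, e0]
    simpa using coord_one_zero hu hw huw
  · refine key _ _ w ?_
    rw [Rep.act hu hw huw hg, e1, e1]
    simpa using coord_zero_one hu hw huw

theorem Rep.upperT {g : G} {k : ℕ} (h1 : g * u * g⁻¹ = u) (h2 : g * w * g⁻¹ = u ^ k * w) :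
    Rep u w g ((Linear.upperT (k : ZMod p) : SL(2, ZMod p)) : Matrix (Fin 2) (Fin 2) (ZMod p)) := by
  constructor
  · simpa [Matrix.SpecialLinearGroup.transvection_coe, coord_one_zero hu hw huw] using h1
  · rw [h2]; simp [Matrix.SpecialLinearGroup.transvection_coe, coord, ZMod.val_one]
    exact pow_eq_pow_mod k hu

theorem Rep.lowerT {g : G} {k : ℕ} (h1 : g * w * g⁻¹ = w) (h2 : g * u * g⁻¹ = w ^ k * u) :
    Rep u w g ((Linear.lowerT (k : ZMod p) : SL(2, ZMod p)) : Matrix (Fin 2) (Fin 2) (ZMod p)) := by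
  constructor
  · rw [h2]; simp [Matrix.SpecialLinearGroup.transvection_coe, coord, ZMod.val_one]
    rw [← pow_eq_pow_mod k hw]
    exact ((huw.symm.pow_left k)).eq
  · simpa [Matrix.SpecialLinearGroup.transvection_coe, coord_zero_one hu hw huw] using h1

end coord

theorem zpowers_eq_of_card [Finite G] {X : Subgroup G} (hX : Nat.card X = p) {x : G} (hx : x ∈ X)
    (hx1 : x ≠ 1) : Subgroup.zpowers x = X := by
  refine Subgroup.eq_of_le_of_card_ge (Subgroup.zpowers_le.2 hx) ?_
  rcases (Nat.dvd_prime hp.out).1 (hX ▸ Subgroup.card_dvd_of_le (Subgroup.zpowers_le.2 hx))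
    with h0 | h0
  · exact absurd (Subgroup.mem_bot.1 ((Subgroup.eq_bot_of_card_eq _ h0) ▸
      Subgroup.mem_zpowers x)) hx1
  · rw [h0, hX]

theorem exists_gen_of_card [Finite G] {X : Subgroup G} (hX : Nat.card X = p) :
    ∃ x : G, x ≠ 1 ∧ x ^ p = 1 ∧ Subgroup.zpowers x = X := by
  obtain ⟨x, hx, hx1⟩ := (Subgroup.bot_or_exists_ne_one X).resolve_left (fun hb => by
    rw [hb, Subgroup.card_bot] at hX; exact hp.out.ne_one hX.symm)
  refine ⟨x, hx1, ?_, zpowers_eq_of_card hX hx hx1⟩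
  have := (Modules.elemAb_of_card_eq_prime hX).2 x hx
  exact this

variable [Finite G] {V H L M N : Subgroup G}

/-- Two distinct conjugates act faithfully on their plane. -/
theorem Hyp.sup_inf_centralizer_plane (h : Hyp p V H) (hL : IsLine p V H L) (hM : IsLine p V H M)
    (hN : IsLine p V H N) (hMQ : M ≤ qcore p H ⊔ L) (hNQ : N ≤ qcore p H ⊔ L) (hne : M ≠ N) :
    (M ⊔ N) ⊓ Subgroup.centralizer ((⁅V, M⁆ ⊔ ⁅V, N⁆ : Subgroup G) : Set G) = ⊥ := by
  obtain ⟨-, -, -, hsup⟩ := h.plane hL hM hN hMQ hNQ hne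
  rw [eq_bot_iff, ← h.faith]
  refine le_inf (inf_le_left.trans (sup_le hM.le hN.le)) ?_
  conv_rhs => rw [← hsup]
  rw [Subgroup.le_centralizer_iff]
  refine sup_le (Subgroup.le_centralizer_iff.1 inf_le_right) ?_
  exact inf_le_right.trans (Subgroup.centralizer_le (SetLike.coe_subset_coe.2 inf_le_left))

/-- Two distinct conjugates generate `SL(2, p)`. -/
theorem Hyp.sup_equiv_SL2 (h : Hyp p V H) (hL : IsLine p V H L) (hM : IsLine p V H M)
    (hN : IsLine p V H N) (hMQ : M ≤ qcore p H ⊔ L) (hNQ : N ≤ qcore p H ⊔ L) (hne : M ≠ N) :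
    Nonempty (↥(M ⊔ N) ≃* SL(2, ZMod p)) := by
  obtain ⟨hd, -, hCdisj, hsup⟩ := h.plane hL hM hN hMQ hNQ hne
  have hfaith := h.sup_inf_centralizer_plane hL hM hN hMQ hNQ hne
  obtain ⟨u, hu1, hu, hUM⟩ := exists_gen_of_card (h.line_data hM.le hM.off hM.card).1
  obtain ⟨w, hw1, hw, hUN⟩ := exists_gen_of_card (h.line_data hN.le hN.off hN.card).1
  have huM : u ∈ ⁅V, M⁆ := hUM ▸ Subgroup.mem_zpowers u
  have hwN : w ∈ ⁅V, N⁆ := hUN ▸ Subgroup.mem_zpowers w
  have huV := h.commutator_le hM.le huM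
  have hwV := h.commutator_le hN.le hwN
  have huw : Commute u w := Modules.elemAb_comm h.elem huV hwV
  have hdz : Subgroup.zpowers u ⊓ Subgroup.zpowers w = ⊥ := by rw [hUM, hUN, hd]
  have stepM : ∀ g ∈ M, ∃ k : ℕ,
      Rep u w g ((Linear.upperT (k : ZMod p) : SL(2, ZMod p)) : Matrix _ _ (ZMod p)) := by
    intro g hg
    have hc : ⁅g, w⁆ ∈ Subgroup.zpowers u := by
      rw [hUM, Subgroup.commutator_comm]
      exact Subgroup.commutator_mem_commutator hg hwV
    obtain ⟨k, hk⟩ := mem_powers_iff_mem_zpowers.2 hc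
    refine ⟨k, Rep.upperT hu hw huw ?_ ?_⟩
    · exact mul_inv_eq_iff_eq_mul.2
        (Subgroup.mem_centralizer_iff.1 (h.line_commutator_le_centralizer hM huM) g hg)
    · rw [show u ^ k = ⁅g, w⁆ from hk, commutatorElement_def]; group
  have stepN : ∀ g ∈ N, ∃ k : ℕ,
      Rep u w g ((Linear.lowerT (k : ZMod p) : SL(2, ZMod p)) : Matrix _ _ (ZMod p)) := by
    intro g hg
    have hc : ⁅g, u⁆ ∈ Subgroup.zpowers w := by
      rw [hUN, Subgroup.commutator_comm]
      exact Subgroup.commutator_mem_commutator hg huV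
    obtain ⟨k, hk⟩ := mem_powers_iff_mem_zpowers.2 hc
    refine ⟨k, Rep.lowerT hu hw huw ?_ ?_⟩
    · exact mul_inv_eq_iff_eq_mul.2
        (Subgroup.mem_centralizer_iff.1 (h.line_commutator_le_centralizer hN hwN) g hg)
    · rw [show w ^ k = ⁅g, u⁆ from hk, commutatorElement_def]; group
  have hex : ∀ g ∈ M ⊔ N, ∃ m : SL(2, ZMod p),
      Rep u w g (m : Matrix (Fin 2) (Fin 2) (ZMod p)) := by
    intro g hg
    rw [Subgroup.sup_eq_closure] at hg
    induction hg using Subgroup.closure_induction with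
    | mem x hx =>
      rcases hx with hx | hx
      · obtain ⟨k, hk⟩ := stepM x hx; exact ⟨_, hk⟩
      · obtain ⟨k, hk⟩ := stepN x hx; exact ⟨_, hk⟩
    | one => exact ⟨1, by simpa using Rep.one hu hw huw⟩
    | mul x y _ _ hx hy =>
      obtain ⟨m, hm⟩ := hx
      obtain ⟨m', hm'⟩ := hy
      exact ⟨m * m', by simpa using Rep.mul hu hw huw hm hm'⟩
    | inv x _ hx =>
      obtain ⟨m, hm⟩ := hx
      exact ⟨m⁻¹, Rep.inv hu hw huw hm⟩
  have huniq : ∀ {g : G} {m m' : SL(2, ZMod p)},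
      Rep u w g (m : Matrix (Fin 2) (Fin 2) (ZMod p)) →
      Rep u w g (m' : Matrix (Fin 2) (Fin 2) (ZMod p)) → m = m' := by
    intro g m m' hm hm'
    obtain ⟨a, b⟩ := coord_inj hu hw huw hdz hu1 hw1 (hm.1.symm.trans hm'.1)
    obtain ⟨c, d⟩ := coord_inj hu hw huw hdz hu1 hw1 (hm.2.symm.trans hm'.2)
    exact Linear.slTwo_ext a c b d
  choose f hf using hex
  let φ : ↥(M ⊔ N) →* SL(2, ZMod p) :=
    MonoidHom.mk' (fun g => f g g.2) fun a b => huniq (hf _ (a * b).2)
      (by simpa using Rep.mul hu hw huw (hf _ a.2) (hf _ b.2))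
  have hinj : Function.Injective φ := by
    rw [← MonoidHom.ker_eq_bot_iff, eq_bot_iff]
    intro g hg
    have hr := hf _ g.2
    have hg1 : f g g.2 = 1 := hg
    rw [hg1] at hr
    have r1 : (g : G) * u * (g : G)⁻¹ = u := by
      rw [hr.1]; simpa using coord_one_zero hu hw huw
    have r2 : (g : G) * w * (g : G)⁻¹ = w := by
      rw [hr.2]; simpa using coord_zero_one hu hw huw
    have : (g : G) ∈ (M ⊔ N) ⊓
        Subgroup.centralizer ((⁅V, M⁆ ⊔ ⁅V, N⁆ : Subgroup G) : Set G) := by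
      refine Subgroup.mem_inf.2 ⟨g.2, ?_⟩
      rw [← hUM, ← hUN]
      have hc : Subgroup.zpowers u ⊔ Subgroup.zpowers w ≤ Subgroup.centralizer {(g : G)} :=
        sup_le (Subgroup.zpowers_le.2 (Subgroup.mem_centralizer_singleton_iff.2
            (mul_inv_eq_iff_eq_mul.1 r1).symm))
          (Subgroup.zpowers_le.2 (Subgroup.mem_centralizer_singleton_iff.2
            (mul_inv_eq_iff_eq_mul.1 r2).symm))
      exact Subgroup.mem_centralizer_iff.2 fun z hz =>
        Subgroup.mem_centralizer_singleton_iff.1 (hc hz)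
    rw [hfaith, Subgroup.mem_bot] at this
    exact Subgroup.mem_bot.2 (Subtype.ext this)
  have hsurj : Function.Surjective φ := by
    have hall : ∀ {X : Subgroup G} (_ : X ≤ M ⊔ N) (_ : X ≠ ⊥) (T : ZMod p → SL(2, ZMod p))
        (_ : ∀ a b, T (a + b) = T a * T b) (_ : T 0 = 1)
        (_ : ∀ g ∈ X, ∃ k : ℕ, Rep u w g (T (k : ZMod p) : Matrix (Fin 2) (Fin 2) (ZMod p))),
        ∀ t, T t ∈ φ.range := by
      intro X hX hXne T hadd hT0 hstep t
      obtain ⟨g, hg, hg1⟩ := (Subgroup.bot_or_exists_ne_one X).resolve_left hXne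
      obtain ⟨k, hk⟩ := hstep g hg
      have e : φ ⟨g, hX hg⟩ = T k := huniq (hf _ (hX hg)) hk
      have hk0 : (k : ZMod p) ≠ 0 := by
        intro h0
        rw [h0, hT0] at e
        exact hg1 (congrArg Subtype.val (hinj (e.trans φ.map_one.symm)))
      have hn : ∀ n : ℕ, T ((n : ZMod p) * k) ∈ φ.range := by
        intro n
        induction n with
        | zero => rw [Nat.cast_zero, zero_mul, hT0]; exact one_mem _
        | succ n ih =>
          rw [Nat.cast_succ, add_mul, one_mul, hadd]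
          exact mul_mem ih ⟨_, e⟩
      have e2 : t = (((t / k).val : ℕ) : ZMod p) * k := by
        rw [ZMod.natCast_zmod_val, div_mul_cancel₀ _ hk0]
      exact e2 ▸ hn _
    have hMb : M ≠ ⊥ := fun hb => hp.out.ne_one (by rw [← hM.card, hb, Subgroup.card_bot])
    have hNb : N ≠ ⊥ := fun hb => hp.out.ne_one (by rw [← hN.card, hb, Subgroup.card_bot])
    have hup := hall le_sup_left hMb (fun t => Linear.upperT t)
      (fun a b => by
        apply Linear.slTwo_ext <;>
          simp [Linear.slTwo_mul_apply, Matrix.SpecialLinearGroup.transvection_coe] <;> ring)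
      (by apply Linear.slTwo_ext <;> simp [Matrix.SpecialLinearGroup.transvection_coe]) stepM
    have hlo := hall le_sup_right hNb (fun t => Linear.lowerT t)
      (fun a b => by
        apply Linear.slTwo_ext <;>
          simp [Linear.slTwo_mul_apply, Matrix.SpecialLinearGroup.transvection_coe] <;> ring)
      (by apply Linear.slTwo_ext <;> simp [Matrix.SpecialLinearGroup.transvection_coe]) stepN
    rw [← MonoidHom.range_eq_top, eq_top_iff]
    intro A _
    refine Matrix.SL2.transvection_induction (fun A => A ∈ φ.range) ?_ (fun _ _ => mul_mem) A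
    intro i j hij c
    fin_cases i <;> fin_cases j <;> first
      | exact absurd rfl hij
      | exact hup c
      | exact hlo c
  exact ⟨MulEquiv.ofBijective φ ⟨hinj, hsurj⟩⟩

end Cfsg.Agent.FF
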