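import Cfsg.Agent.FF.Block

/-!
Failure of factorization: distinct blocks commute and have independent planes.
-/

set_option autoImplicit false

open Cfsg
open scoped commutatorElement

namespace Cfsg.Agent.FF

variable {p : ℕ} [hp : Fact p.Prime] {G : Type*} [Group G] [Finite G] {V H L L' : Subgroup G}

/-- The plane of a block. -/
abbrev bplane (p : ℕ) {G : Type*} [Group G] (V H L : Subgroup G) : Subgroup G :=
  ⁅V, eblock p H L⁆

/-- The fixed points of a block. -/
abbrev bfixed (p : ℕ) {G : Type*} [Group G] (V H L : Subgroup G) : Subgroup G :=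
  V ⊓ Subgroup.centralizer (eblock p H L : Set G)

theorem Hyp.bplane_le (h : Hyp p V H) (hL : IsLine p V H L) : bplane p V H L ≤ V :=
  h.commutator_le (eblock_le_H hL)

theorem Hyp.le_normalizer_sub (h : Hyp p V H) {X Y : Subgroup G} (hX : X ≤ V) (hY : Y ≤ V) :
    X ≤ Subgroup.normalizer (Y : Set G) :=
  hX.trans ((Modules.comm_le_centralizer h.elem.1).trans
    ((Subgroup.centralizer_le (SetLike.coe_subset_coe.2 hY)).trans
      (Subgroup.centralizer_le_normalizer _)))

theorem Hyp.qcore_le_normalizer_bplane (h : Hyp p V H) (hL : IsLine p V H L) :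
    qcore p H ≤ Subgroup.normalizer (bplane p V H L : Set G) := by
  intro q hq
  rw [Subgroup.mem_normalizer_iff_map_conj_eq]
  change (bplane p V H L).map (MulAut.conj q).toMonoidHom = _
  rw [map_conj_commutator (h.norm (qcore_le hq)), map_conj_eq (qcore_le_normalizer_eblock hL hq)]

theorem Hyp.qcore_le_normalizer_bfixed (h : Hyp p V H) (hL : IsLine p V H L) :
    qcore p H ≤ Subgroup.normalizer (bfixed p V H L : Set G) :=
  Modules.normalizes_inf (qcore_le.trans h.norm)
    (Modules.normalizes_centralizer (qcore_le_normalizer_eblock hL))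

theorem commutator_qcore_le (hL : IsLine p V H L) : ⁅qcore p H, L⁆ ≤ qcore p H :=
  (eblock_commutator_le_inf hL).trans inf_le_left

theorem Hyp.bplane_eq_or_disjoint (h : Hyp p V H) (hL : IsLine p V H L) (hL' : IsLine p V H L') :
    bplane p V H L = bplane p V H L' ∨ bplane p V H L ⊓ bplane p V H L' = ⊥ := by
  set T := bplane p V H L ⊓ bplane p V H L' with hT
  have hd : Nat.card T ∣ p ^ 2 :=
    (h.block_module hL).1 ▸ Subgroup.card_dvd_of_le (inf_le_left : T ≤ _)
  obtain ⟨i, hi2, hi⟩ := (Nat.dvd_prime_pow hp.out).1 hd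
  obtain rfl | rfl | rfl : i = 0 ∨ i = 1 ∨ i = 2 := by omega
  · exact Or.inr (Subgroup.eq_bot_of_card_eq _ (by rw [hi, pow_zero]))
  · refine (h.no_invariant_point hL (inf_le_left : T ≤ _) (by rw [hi, pow_one]) ?_).elim
    exact (commutator_qcore_le hL).trans (Modules.normalizes_inf (h.qcore_le_normalizer_bplane hL)
      (h.qcore_le_normalizer_bplane hL'))
  · refine Or.inl ?_
    have e1 : T = bplane p V H L :=
      Subgroup.eq_of_le_of_card_ge inf_le_left (by rw [hi, (h.block_module hL).1])
    have e2 : T = bplane p V H L' :=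
      Subgroup.eq_of_le_of_card_ge inf_le_right (by rw [hi, (h.block_module hL').1])
    exact e1.symm.trans e2

theorem Hyp.card_bfixed (h : Hyp p V H) (hL : IsLine p V H L) :
    p ^ 2 * Nat.card ↥(bfixed p V H L) = Nat.card V := by
  obtain ⟨h1, h2, h3, -⟩ := h.block_module hL
  have e := Modules.card_sup_mul_card_inf (h.le_normalizer_sub (h.bplane_le hL)
    (inf_le_left : bfixed p V H L ≤ V))
  rw [h2, Subgroup.card_bot, mul_one, h3, h1] at e
  exact e.symm

theorem commutator_sub_le {X Y : Subgroup G} (hX : X ≤ Subgroup.normalizer (V : Set G))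
    (hY : Y ≤ V) (hXY : X ≤ Subgroup.normalizer (Y : Set G)) : ⁅Y, X⁆ ≤ Y ⊓ ⁅V, X⁆ :=
  le_inf (Modules.commutator_le_of_normalizes hXY) (Subgroup.commutator_mono hY le_rfl)

theorem Hyp.bfixed_le_of_bplane (h : Hyp p V H) (hL : IsLine p V H L) (hL' : IsLine p V H L')
    (he : bplane p V H L = bplane p V H L') : bfixed p V H L' ≤ bfixed p V H L := by
  rw [bfixed, bfixed, ← h.centralizer_commutator_qcore hL]
  refine le_inf inf_le_left (Subgroup.commutator_eq_bot_iff_le_centralizer.1 (le_bot_iff.1 ?_))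
  refine (commutator_sub_le ((commutator_qcore_le hL).trans (qcore_le.trans h.norm))
    (inf_le_left : bfixed p V H L' ≤ V)
    ((commutator_qcore_le hL).trans (h.qcore_le_normalizer_bfixed hL'))).trans ?_
  have h2 := (h.block_module hL').2.1
  rw [inf_comm] at h2
  refine h2 ▸ inf_le_inf_left _ ?_
  exact (Subgroup.commutator_mono le_rfl le_sup_left).trans he.le

theorem Hyp.bfixed_eq_of_bplane (h : Hyp p V H) (hL : IsLine p V H L) (hL' : IsLine p V H L')
    (he : bplane p V H L = bplane p V H L') : bfixed p V H L' = bfixed p V H L :=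
  le_antisymm (h.bfixed_le_of_bplane hL hL' he) (h.bfixed_le_of_bplane hL' hL he.symm)

theorem Hyp.line_centralizer_eq (h : Hyp p V H) (hL : IsLine p V H L) {M : Subgroup G}
    (hM : IsLine p V H M) (hU : ⁅V, M⁆ ≤ bplane p V H L)
    (hC : bfixed p V H L ≤ Subgroup.centralizer (M : Set G)) :
    V ⊓ Subgroup.centralizer (M : Set G) = ⁅V, M⁆ ⊔ bfixed p V H L := by
  set C := bfixed p V H L
  have hle : ⁅V, M⁆ ⊔ C ≤ V ⊓ Subgroup.centralizer (M : Set G) :=
    sup_le (le_inf (h.commutator_le hM.le) (h.line_commutator_le_centralizer hM))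
      (le_inf inf_le_left hC)
  refine (Subgroup.eq_of_le_of_card_ge hle ?_).symm
  have e := Modules.card_sup_mul_card_inf
    (h.le_normalizer_sub (h.commutator_le hM.le) (inf_le_left : C ≤ V))
  have hd : ⁅V, M⁆ ⊓ C = ⊥ := le_bot_iff.1 ((h.block_module hL).2.1 ▸ inf_le_inf_right _ hU)
  rw [hd, Subgroup.card_bot, mul_one, (h.line_data hM.le hM.off hM.card).1] at e
  have e1 := card_eq_card_mul_relIndex
    (inf_le_left : V ⊓ Subgroup.centralizer (M : Set G) ≤ V)
  rw [(h.line_data hM.le hM.off hM.card).2] at e1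
  have e2 := h.card_bfixed hL
  rw [e]
  apply le_of_eq
  apply Nat.eq_of_mul_eq_mul_right hp.out.pos
  rw [← e1, ← e2]
  ring

/-- A line whose plane is the plane of a block lies in that block. -/
theorem Hyp.line_le_eblock (h : Hyp p V H) (hL : IsLine p V H L) (hL' : IsLine p V H L')
    (he : bplane p V H L = bplane p V H L') : L' ≤ eblock p H L := by
  obtain ⟨M, hM⟩ := h.exists_blockData hL
  have hU : ⁅V, L'⁆ ≤ bplane p V H L := he ▸ Subgroup.commutator_mono le_rfl le_sup_right
  obtain ⟨z, hz1, -, hz⟩ := exists_gen_of_card (h.line_data hL'.le hL'.off hL'.card).1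
  have hzL : z ∈ ⁅V, L'⁆ := hz ▸ Subgroup.mem_zpowers z
  have hz' : z ∈ ⁅V, L⁆ ⊔ ⁅V, M⁆ := by
    rw [← h.commutator_sup_eq hL.le hM.line.le, hM.sup_eq]
    exact hU hzL
  obtain ⟨R, hR, hRle, hzR⟩ :=
    h.exists_line_center hL hL hM.line le_sup_right hM.le_qcore hM.ne hz'
  rw [hM.sup_eq] at hRle
  have hUeq : ⁅V, R⁆ = ⁅V, L'⁆ :=
    (zpowers_eq_of_card (h.line_data hR.le hR.off hR.card).1 hzR hz1).symm.trans hz
  have hCR : bfixed p V H L ≤ Subgroup.centralizer (R : Set G) :=
    inf_le_right.trans (Subgroup.centralizer_le (SetLike.coe_subset_coe.2 hRle))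
  have hCL' : bfixed p V H L ≤ Subgroup.centralizer (L' : Set G) := by
    rw [← h.bfixed_eq_of_bplane hL hL' he]
    exact inf_le_right.trans (Subgroup.centralizer_le (SetLike.coe_subset_coe.2 le_sup_right))
  have e1 := h.line_centralizer_eq hL hR (hUeq ▸ hU) hCR
  have e2 := h.line_centralizer_eq hL hL' hU hCL'
  rw [hUeq, ← e2] at e1
  set X := R ⊔ L'
  have hXH : X ≤ H := sup_le hR.le hL'.le
  have hXU : ⁅V, X⁆ ≤ ⁅V, L'⁆ := (h.commutator_sup_eq hR.le hL'.le).le.trans (by rw [hUeq, sup_idem])
  have hfix : V ⊓ Subgroup.centralizer (L' : Set G) ≤ Subgroup.centralizer (X : Set G) := by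
    rw [Subgroup.le_centralizer_iff]
    refine sup_le (Subgroup.le_centralizer_iff.1 ?_) (Subgroup.le_centralizer_iff.1 inf_le_right)
    exact e1.symm.le.trans inf_le_right
  have hq : ⁅⁅V, X⁆, X⁆ = ⊥ := Modules.quadratic_iff.2
    (hXU.trans ((le_inf (h.commutator_le hL'.le)
      (h.line_commutator_le_centralizer hL')).trans hfix))
  have hfaith : ∀ g ∈ X, g ∈ Subgroup.centralizer (V : Set G) → g = 1 := fun g hg hc =>
    Subgroup.mem_bot.1 (h.faith ▸ Subgroup.mem_inf.2 ⟨hXH hg, hc⟩)
  have hXe : IsElementaryAbelian p X := by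
    refine ⟨Modules.comm_iff.2 fun a ha b hb => commutatorElement_eq_one_iff_mul_comm.1 ?_,
      fun a ha => hfaith _ (pow_mem ha p)
        (Modules.pow_mem_centralizer_of_quadratic h.elem (hXH.trans h.norm) hq ha)⟩
    refine hfaith _ ?_ (Modules.commutator_le_centralizer_of_quadratic hq
      (Subgroup.commutator_mem_commutator ha hb))
    rw [commutatorElement_def]
    exact mul_mem (mul_mem (mul_mem ha hb) (inv_mem ha)) (inv_mem hb)
  have hle := h.card_mul_le X hXH hXe
  have hcx : V ⊓ Subgroup.centralizer (X : Set G) = V ⊓ Subgroup.centralizer (L' : Set G) :=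
    le_antisymm (inf_le_inf_left _ (Subgroup.centralizer_le
      (SetLike.coe_subset_coe.2 le_sup_right))) (le_inf inf_le_left hfix)
  rw [hcx, ← ((h.bestOffender_iff hL'.le).1 hL'.off).2, hL'.card] at hle
  have hXp : Nat.card X ≤ p := Nat.le_of_mul_le_mul_right hle Nat.card_pos
  have e3 : L' = X := Subgroup.eq_of_le_of_card_ge le_sup_right (hXp.trans hL'.card.ge)
  exact e3.le.trans (sup_le hRle
    ((eq_of_le_of_card_prime hR.card hL'.card (e3.symm ▸ le_sup_left)).ge.trans hRle))

theorem Hyp.eblock_le_of_line_le (h : Hyp p V H) (hL : IsLine p V H L) (hL' : IsLine p V H L')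
    (hle : L' ≤ eblock p H L) : eblock p H L' ≤ eblock p H L := by
  obtain ⟨x, hx, hxL⟩ := h.exists_not_centralizing hL'
  rw [← h.eblock_eq_sup hL' hx hxL]
  exact sup_le hle ((Subgroup.map_mono hle).trans
    (map_conj_eq (qcore_le_normalizer_eblock hL hx)).le)

/-- Blocks are determined by their planes. -/
theorem Hyp.eblock_eq_of_bplane (h : Hyp p V H) (hL : IsLine p V H L) (hL' : IsLine p V H L')
    (he : bplane p V H L = bplane p V H L') : eblock p H L = eblock p H L' :=
  le_antisymm (h.eblock_le_of_line_le hL' hL (h.line_le_eblock hL' hL he.symm))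
    (h.eblock_le_of_line_le hL hL' (h.line_le_eblock hL hL' he))

theorem Hyp.bplane_inf_of_ne (h : Hyp p V H) (hL : IsLine p V H L) (hL' : IsLine p V H L')
    (hne : eblock p H L ≠ eblock p H L') : bplane p V H L ⊓ bplane p V H L' = ⊥ :=
  (h.bplane_eq_or_disjoint hL hL').resolve_left fun he => hne (h.eblock_eq_of_bplane hL hL' he)

/-- The plane of another block is fixed by a block. -/
theorem Hyp.bplane_le_bfixed (h : Hyp p V H) (hL : IsLine p V H L) (hL' : IsLine p V H L')
    (hne : eblock p H L ≠ eblock p H L') : bplane p V H L' ≤ bfixed p V H L := by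
  rw [bfixed, ← h.centralizer_commutator_qcore hL]
  refine le_inf (h.bplane_le hL') (Subgroup.commutator_eq_bot_iff_le_centralizer.1
    (le_bot_iff.1 ?_))
  refine (commutator_sub_le ((commutator_qcore_le hL).trans (qcore_le.trans h.norm))
    (h.bplane_le hL') ((commutator_qcore_le hL).trans (h.qcore_le_normalizer_bplane hL'))).trans ?_
  rw [← h.bplane_inf_of_ne hL hL' hne, inf_comm]
  exact inf_le_inf_right _ (Subgroup.commutator_mono le_rfl le_sup_left)

theorem Hyp.eblock_le_centralizer_bplane (h : Hyp p V H) (hL : IsLine p V H L)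
    (hL' : IsLine p V H L') (hne : eblock p H L ≠ eblock p H L') :
    eblock p H L ≤ Subgroup.centralizer (bplane p V H L' : Set G) :=
  Subgroup.le_centralizer_iff.1 ((h.bplane_le_bfixed hL hL' hne).trans inf_le_right)

/-- `⁅a, b⁆` is trivial on `X` when `b` is and `a` normalizes `X`. -/
theorem commutatorElement_mem_centralizer {X : Subgroup G} {a b : G}
    (ha : a ∈ Subgroup.normalizer (X : Set G)) (hb : b ∈ Subgroup.centralizer (X : Set G)) :
    ⁅a, b⁆ ∈ Subgroup.centralizer (X : Set G) := by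
  have hn := (Subgroup.mem_normalizer_iff.1
    (Subgroup.le_normalizer_iff.2 (fun g hg c hc => ?_) (Subgroup.mem_zpowers a)) b).1 hb
  · rw [commutatorElement_def]
    exact mul_mem hn (inv_mem hb)
  · exact (Subgroup.mem_normalizer_iff.1
      (Modules.normalizes_centralizer (Subgroup.zpowers_le.2 ha) hg) c).1 hc

theorem Hyp.eblock_commute (h : Hyp p V H) (hL : IsLine p V H L) (hL' : IsLine p V H L')
    (hne : eblock p H L ≠ eblock p H L') : ⁅eblock p H L, eblock p H L'⁆ = ⊥ := by
  rw [eq_bot_iff, Subgroup.commutator_le]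
  intro a ha b hb
  set W := bplane p V H L
  set W' := bplane p V H L'
  set C := bfixed p V H L
  set C' := bfixed p V H L'
  have haH := eblock_le_H hL ha
  have hbH := eblock_le_H hL' hb
  have hab : ⁅a, b⁆ ∈ H := by
    rw [commutatorElement_def]
    exact mul_mem (mul_mem (mul_mem haH hbH) (inv_mem haH)) (inv_mem hbH)
  have c1 : ⁅a, b⁆ ∈ Subgroup.centralizer (W : Set G) := commutatorElement_mem_centralizer
    (Modules.normalizes_commutator (h.eblock_le_normalizer_V hL) ha)
    (h.eblock_le_centralizer_bplane hL' hL hne.symm hb)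
  have c2 : ⁅a, b⁆ ∈ Subgroup.centralizer (W' : Set G) := by
    rw [← commutatorElement_inv b a]
    exact inv_mem (commutatorElement_mem_centralizer
      (Modules.normalizes_commutator (h.eblock_le_normalizer_V hL') hb)
      (h.eblock_le_centralizer_bplane hL hL' hne ha))
  have c3 : ⁅a, b⁆ ∈ Subgroup.centralizer ((C ⊓ C' : Subgroup G) : Set G) := by
    have hc1 : a ∈ Subgroup.centralizer ((C ⊓ C' : Subgroup G) : Set G) :=
      (Subgroup.le_centralizer_iff.1 (inf_le_left.trans inf_le_right)) ha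
    have hc2 : b ∈ Subgroup.centralizer ((C ⊓ C' : Subgroup G) : Set G) :=
      (Subgroup.le_centralizer_iff.1 (inf_le_right.trans inf_le_right)) hb
    rw [commutatorElement_def]
    exact mul_mem (mul_mem (mul_mem hc1 hc2) (inv_mem hc1)) (inv_mem hc2)
  have hspan : V ≤ W ⊔ (W' ⊔ (C ⊓ C')) := by
    refine (h.block_module hL).2.2.1.symm.le.trans (sup_le_sup_left ?_ W)
    intro c hc
    obtain ⟨w', hw', c', hc', rfl⟩ := Coprime.exists_mul_of_mem_sup
      (h.le_normalizer_sub (h.bplane_le hL') (inf_le_left : C' ≤ V))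
      ((h.block_module hL').2.2.1.symm ▸ (Subgroup.mem_inf.1 hc).1)
    have hc'C : c' ∈ C :=
      (Subgroup.mul_mem_cancel_left _ (h.bplane_le_bfixed hL hL' hne hw')).1 hc
    exact mul_mem (Subgroup.mem_sup_left hw')
      (Subgroup.mem_sup_right (Subgroup.mem_inf.2 ⟨hc'C, hc'⟩))
  have hall : W ⊔ (W' ⊔ (C ⊓ C')) ≤ Subgroup.centralizer {⁅a, b⁆} := by
    refine sup_le ?_ (sup_le ?_ ?_) <;>
      intro x hx <;> rw [Subgroup.mem_centralizer_singleton_iff]
    · exact Subgroup.mem_centralizer_iff.1 c1 x hx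
    · exact Subgroup.mem_centralizer_iff.1 c2 x hx
    · exact Subgroup.mem_centralizer_iff.1 c3 x hx
  refine h.faith ▸ Subgroup.mem_inf.2 ⟨hab, Subgroup.mem_centralizer_iff.2 fun v hv => ?_⟩
  exact Subgroup.mem_centralizer_singleton_iff.1 (hall (hspan hv))

/-- The standing hypothesis together with generation by best offenders. -/
structure GenHyp (p : ℕ) {G : Type*} [Group G] (V H : Subgroup G) : Prop extends Hyp p V H where
  gen : H = ⨆ A : {A : Subgroup G // A ≤ H ∧ IsBestOffenderOn p V A}, (A : Subgroup G)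

theorem GenHyp.le_of_lines (h : GenHyp p V H) {X : Subgroup G}
    (hX : ∀ L, IsLine p V H L → L ≤ X) : H ≤ X := by
  refine h.gen.le.trans (iSup_le fun A => ?_)
  exact (h.toHyp.le_iSup_lines A A.2.1 A.2.2).trans
    (iSup_le fun L => hX L ⟨L.2.1.trans A.2.1, L.2.2.2, L.2.2.1⟩)

theorem GenHyp.le_normalizer_eblock (h : GenHyp p V H) (hL : IsLine p V H L) :
    H ≤ Subgroup.normalizer (eblock p H L : Set G) := by
  refine h.le_of_lines fun L' hL' => le_sup_right.trans (?_ : eblock p H L' ≤ _)
  by_cases hne : eblock p H L = eblock p H L'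
  · rw [hne]; exact Subgroup.le_normalizer
  · refine le_trans ?_ (Subgroup.centralizer_le_normalizer _)
    exact Subgroup.commutator_eq_bot_iff_le_centralizer.1
      (h.toHyp.eblock_commute hL' hL (Ne.symm hne))

theorem GenHyp.le_normalizer_bplane (h : GenHyp p V H) (hL : IsLine p V H L) :
    H ≤ Subgroup.normalizer (bplane p V H L : Set G) := by
  intro q hq
  rw [Subgroup.mem_normalizer_iff_map_conj_eq]
  change (bplane p V H L).map (MulAut.conj q).toMonoidHom = _
  rw [map_conj_commutator (h.norm hq), map_conj_eq (h.le_normalizer_eblock hL hq)]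

/-- `H` is the product of a block and the centralizer of its plane. -/
theorem GenHyp.eblock_factor (h : GenHyp p V H) (hL : IsLine p V H L) :
    ⁅eblock p H L, H ⊓ Subgroup.centralizer (bplane p V H L : Set G)⁆ = ⊥ ∧
    eblock p H L ⊓ (H ⊓ Subgroup.centralizer (bplane p V H L : Set G)) = ⊥ ∧
    eblock p H L ⊔ (H ⊓ Subgroup.centralizer (bplane p V H L : Set G)) = H ∧
    ⁅V, H ⊓ Subgroup.centralizer (bplane p V H L : Set G)⁆ ≤ bfixed p V H L := by
  set E := eblock p H L
  set W := bplane p V H L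
  set K := H ⊓ Subgroup.centralizer (W : Set G)
  have hKn : K ≤ Subgroup.normalizer (E : Set G) := inf_le_left.trans (h.le_normalizer_eblock hL)
  refine ⟨?_, le_bot_iff.1 ((h.toHyp.block_module hL).2.2.2 ▸ inf_le_inf_left _ inf_le_right),
    le_antisymm (sup_le (eblock_le_H hL) inf_le_left) (h.le_of_lines fun L' hL' => ?_), ?_⟩
  · refine h.toHyp.eq_bot_of_centralizes_plane hL ?_ ?_
    · rw [Subgroup.commutator_comm]
      exact Subgroup.le_normalizer_iff_commutator_le_right.1 hKn
    · rw [Subgroup.commutator_le]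
      intro a ha b hb
      exact commutatorElement_mem_centralizer
        (Modules.normalizes_commutator (h.toHyp.eblock_le_normalizer_V hL) ha)
        (Subgroup.mem_inf.1 hb).2
  · by_cases hne : eblock p H L = eblock p H L'
    · exact (le_sup_right.trans hne.ge).trans le_sup_left
    · refine le_trans (le_inf hL'.le ?_) le_sup_right
      exact le_sup_right.trans (h.toHyp.eblock_le_centralizer_bplane hL' hL (Ne.symm hne))
  · rw [Subgroup.commutator_le]
    intro v hv k hk
    obtain ⟨hkH, hkW⟩ := Subgroup.mem_inf.1 hk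
    obtain ⟨w, hw, c, hc, rfl⟩ := Coprime.exists_mul_of_mem_sup
      (h.toHyp.le_normalizer_sub (h.toHyp.bplane_le hL) (inf_le_left : bfixed p V H L ≤ V))
      ((h.toHyp.block_module hL).2.2.1.symm ▸ hv)
    have hd : ⁅c, k⁆ ∈ bfixed p V H L := Modules.commutatorElement_mem
      (Modules.normalizes_inf h.norm (Modules.normalizes_centralizer (h.le_normalizer_eblock hL))
        hkH) hc
    rw [Modules.commutatorElement_mul_left, commutatorElement_eq_one_iff_mul_comm.2
      (Subgroup.mem_centralizer_iff.1 hkW w hw), mul_one,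
      Modules.elemAb_comm h.elem (h.toHyp.bplane_le hL hw) (Subgroup.mem_inf.1 hd).1,
      mul_inv_cancel_right]
    exact hd

theorem Hyp.line_of_minimal (h : Hyp p V H) {A : Subgroup G} (hAH : A ≤ H)
    (hA : IsBestOffenderOn p V A) (hAV : ⁅V, A⁆ ≠ ⊥)
    (hmin : ∀ B : Subgroup G, B ≤ A → IsBestOffenderOn p V B → ⁅V, B⁆ ≠ ⊥ → B = A) :
    IsLine p V H A :=
  ⟨hAH, hA, h.card_minimal hAH hA hAV hmin⟩

theorem Hyp.minimal_of_line (h : Hyp p V H) (hL : IsLine p V H L) :
    ⁅V, L⁆ ≠ ⊥ ∧ ∀ B : Subgroup G, B ≤ L → IsBestOffenderOn p V B → ⁅V, B⁆ ≠ ⊥ → B = L := by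
  refine ⟨fun hb => ?_, fun B hB _ hBV => ?_⟩
  · have h1 := (h.line_data hL.le hL.off hL.card).1
    rw [hb, Subgroup.card_bot] at h1
    exact hp.out.ne_one h1.symm
  · rcases (Nat.dvd_prime hp.out).1 (hL.card ▸ Subgroup.card_dvd_of_le hB) with h1 | h1
    · exact absurd (by rw [Subgroup.eq_bot_of_card_eq B h1, Subgroup.commutator_bot_right]) hBV
    · exact Subgroup.eq_of_le_of_card_ge hB (by rw [h1, hL.card])

/-- The decomposition of `H` and of `V` by the blocks. -/
theorem GenHyp.decomposition (h : GenHyp p V H) {ι : Type*} [Finite ι] (L : ι → Subgroup G)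
    (hL : ∀ i, IsLine p V H (L i)) (E : ι → Subgroup G) (hE : ∀ i, E i = eblock p H (L i))
    (hinj : Function.Injective E) (hall : ∀ M, IsLine p V H M → ∃ i, E i = eblock p H M) :
    iSupIndep E ∧ (⨆ i, E i) = H ∧
    iSupIndep (fun o : Option ι =>
      o.elim (V ⊓ Subgroup.centralizer (H : Set G)) (fun i => ⁅V, E i⁆)) ∧
    (V ⊓ Subgroup.centralizer (H : Set G)) ⊔ (⨆ i, ⁅V, E i⁆) = V := by
  classical
  haveI := Fintype.ofFinite ι
  have hne : ∀ {i j : ι}, i ≠ j → eblock p H (L i) ≠ eblock p H (L j) := fun {i j} hij he =>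
    hij (hinj (by rw [hE, hE, he]))
  set Z := V ⊓ Subgroup.centralizer (H : Set G)
  have hW : ∀ i, ⁅V, E i⁆ = bplane p V H (L i) := fun i => by rw [hE]
  have hZfix : ∀ i, Z ≤ bfixed p V H (L i) := fun i =>
    inf_le_inf_left _ (Subgroup.centralizer_le (SetLike.coe_subset_coe.2 (eblock_le_H (hL i))))
  have hjfix : ∀ {i j : ι}, i ≠ j → ⁅V, E j⁆ ≤ bfixed p V H (L i) := fun {i j} hij =>
    hW j ▸ h.toHyp.bplane_le_bfixed (hL i) (hL j) (hne hij)
  have hsupH : (⨆ i, E i) = H := by
    refine le_antisymm (iSup_le fun i => hE i ▸ eblock_le_H (hL i)) (h.le_of_lines fun M hM => ?_)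
    obtain ⟨i, hi⟩ := hall M hM
    exact (le_sup_right.trans hi.ge).trans (le_iSup E i)
  refine ⟨fun i => ?_, hsupH, fun o => ?_, ?_⟩
  · rw [disjoint_iff, eq_bot_iff, ← (h.eblock_factor (hL i)).2.1, hE i]
    refine inf_le_inf_left _ (iSup₂_le fun j hj => le_inf (hE j ▸ eblock_le_H (hL j)) ?_)
    exact hE j ▸ h.toHyp.eblock_le_centralizer_bplane (hL j) (hL i) (hne hj)
  · cases o with
    | none =>
      rw [disjoint_iff, eq_bot_iff]
      have key : ∀ s : Finset ι, Z ⊓ s.sup (fun i => ⁅V, E i⁆) ≤ ⊥ := by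
        intro s
        induction s using Finset.induction_on with
        | empty => simp
        | insert a s ha ih =>
          intro x hx
          obtain ⟨hxZ, hxs⟩ := Subgroup.mem_inf.1 hx
          rw [Finset.sup_insert] at hxs
          have hsV : s.sup (fun i => ⁅V, E i⁆) ≤ V :=
            Finset.sup_le fun i _ => hW i ▸ h.toHyp.bplane_le (hL i)
          obtain ⟨w, hw, r, hr, rfl⟩ := Coprime.exists_mul_of_mem_sup
            (h.toHyp.le_normalizer_sub (hW a ▸ h.toHyp.bplane_le (hL a)) hsV) hxs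
          have hra : r ∈ bfixed p V H (L a) :=
            (Finset.sup_le fun i hi => hjfix fun e => ha (by rwa [e])) hr
          have hwa : w ∈ bplane p V H (L a) ⊓ bfixed p V H (L a) := Subgroup.mem_inf.2
            ⟨hW a ▸ hw, (Subgroup.mul_mem_cancel_right _ hra).1 (hZfix a hxZ)⟩
          rw [bplane, bfixed, (h.toHyp.block_module (hL a)).2.1, Subgroup.mem_bot] at hwa
          subst hwa
          rw [one_mul] at hxZ ⊢
          exact ih (Subgroup.mem_inf.2 ⟨hxZ, hr⟩)
      refine le_trans (inf_le_inf_left _ (iSup₂_le fun o ho => ?_)) (key Finset.univ)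
      cases o with
      | none => exact absurd rfl ho
      | some j => exact Finset.le_sup (f := fun i => ⁅V, E i⁆) (Finset.mem_univ j)
    | some i =>
      rw [disjoint_iff, eq_bot_iff, ← (h.toHyp.block_module (hL i)).2.1]
      refine inf_le_inf (hW i).le (iSup₂_le fun o ho => ?_)
      cases o with
      | none => exact hZfix i
      | some j => exact hjfix fun e => ho (by rw [e])
  · have key : ∀ s : Finset ι, V ≤ s.sup (fun i => ⁅V, E i⁆) ⊔
        (V ⊓ Subgroup.centralizer ((s.sup E : Subgroup G) : Set G)) := by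
      intro s
      induction s using Finset.induction_on with
      | empty =>
        refine le_trans (le_inf le_rfl ?_) le_sup_right
        rw [Finset.sup_empty, Subgroup.le_centralizer_iff]
        exact bot_le
      | insert a s ha ih =>
        refine ih.trans (sup_le ((Finset.sup_mono (Finset.subset_insert a s)).trans le_sup_left) ?_)
        intro z hz
        obtain ⟨hzV, hzs⟩ := Subgroup.mem_inf.1 hz
        obtain ⟨w, hw, c, hc, rfl⟩ := Coprime.exists_mul_of_mem_sup
          (h.toHyp.le_normalizer_sub (h.toHyp.bplane_le (hL a))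
            (inf_le_left : bfixed p V H (L a) ≤ V))
          ((h.toHyp.block_module (hL a)).2.2.1.symm ▸ hzV)
        have hws : w ∈ Subgroup.centralizer ((s.sup E : Subgroup G) : Set G) := by
          refine (Subgroup.le_centralizer_iff.1 (Finset.sup_le fun i hi => ?_)) hw
          refine Subgroup.le_centralizer_iff.1 ?_
          rw [hE i]
          exact (h.toHyp.bplane_le_bfixed (hL i) (hL a) (hne fun e => ha (by rwa [← e]))).trans
            inf_le_right
        have hcs := (Subgroup.mul_mem_cancel_left _ hws).1 hzs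
        refine mul_mem (Subgroup.mem_sup_left ?_) (Subgroup.mem_sup_right ?_)
        · exact Finset.le_sup (f := fun i => ⁅V, E i⁆) (Finset.mem_insert_self a s) (hW a ▸ hw)
        · refine Subgroup.mem_inf.2 ⟨(Subgroup.mem_inf.1 hc).1, ?_⟩
          have hboth : E a ⊔ s.sup E ≤ Subgroup.centralizer {c} := by
            refine sup_le ?_ ?_ <;> intro g hg <;> rw [Subgroup.mem_centralizer_singleton_iff]
            · exact Subgroup.mem_centralizer_iff.1 (Subgroup.mem_inf.1 hc).2 g (hE a ▸ hg)
            · exact Subgroup.mem_centralizer_iff.1 hcs g hg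
          rw [Finset.sup_insert]
          exact Subgroup.mem_centralizer_iff.2 fun g hg =>
            Subgroup.mem_centralizer_singleton_iff.1 (hboth hg)
    refine le_antisymm (sup_le inf_le_left (iSup_le fun i => hW i ▸ h.toHyp.bplane_le (hL i))) ?_
    refine (key Finset.univ).trans (sup_le ((Finset.sup_le fun i _ =>
      le_iSup (fun i => ⁅V, E i⁆) i).trans le_sup_right) ((inf_le_inf_left _
      (Subgroup.centralizer_le (SetLike.coe_subset_coe.2 ?_))).trans le_sup_left))
    rw [← hsupH]
    exact iSup_le fun i => Finset.le_sup (f := E) (Finset.mem_univ i)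

end Cfsg.Agent.FF
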