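import Mathlib.GroupTheory.SemidirectProduct
import Cfsg.Agent.FF.Structure
import Cfsg.Agent.PSolv.HallHigmanDual
import Cfsg.Agent.Modules.Replacement

/-!
Failure of factorization for `J(G)` acting on a normal elementary abelian subgroup.
-/

set_option autoImplicit false

open Cfsg
open scoped MatrixGroups

namespace Cfsg.Agent.FF

variable {p : ℕ} {G : Type*} [Group G]

/-- The action of `G / C_G(V)` on `V`. -/
noncomputable def quotAct (V : Subgroup G) [V.Normal] :
    G ⧸ Subgroup.centralizer (V : Set G) →* MulAut V :=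
  QuotientGroup.lift (Subgroup.centralizer (V : Set G)) MulAut.conjNormal fun g hg => by
    rw [MonoidHom.mem_ker]
    refine MulEquiv.ext fun v => Subtype.ext ?_
    rw [MulAut.conjNormal_apply, MulAut.one_apply,
      ← Subgroup.mem_centralizer_iff.1 hg v v.2, mul_inv_cancel_right]

theorem quotAct_mk (V : Subgroup G) [V.Normal] (g : G) (v : V) :
    (quotAct V (QuotientGroup.mk g) v : G) = g * v * g⁻¹ :=
  MulAut.conjNormal_apply g v

/-- Inside a `p`-soluble group: if `J(G)` moves `V`, it induces a normal `SL(2, p)`. -/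
theorem exists_SL2_of_moves [Finite G] [hp : Fact p.Prime] (hsep : IsPSolvable p G)
    (V : Subgroup G) [V.Normal] (hV : IsElementaryAbelian p V)
    (hOp : pCore p (G ⧸ Subgroup.centralizer (V : Set G)) = ⊥)
    (hJ : ¬ thompsonSubgroup p G ≤ Subgroup.centralizer (V : Set G)) :
    (p = 2 ∨ p = 3) ∧ ∃ E : Subgroup G, Subgroup.centralizer (V : Set G) ≤ E ∧
      E ≤ thompsonSubgroup p G ⊔ Subgroup.centralizer (V : Set G) ∧
      thompsonSubgroup p G ⊔ Subgroup.centralizer (V : Set G) ≤ Subgroup.normalizer (E : Set G) ∧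
      ∃ _hn : ((Subgroup.centralizer (V : Set G)).subgroupOf E).Normal,
        Nonempty ((↥E ⧸ (Subgroup.centralizer (V : Set G)).subgroupOf E) ≃* SL(2, ZMod p)) := by
  set C := Subgroup.centralizer (V : Set G) with hC
  set π := QuotientGroup.mk' C
  set J := thompsonSubgroup p G with hJdef
  haveI hJn : J.Normal := by
    have := Modules.thompsonSubgroup_characteristic p G
    exact inferInstance
  let S := SemidirectProduct V (G ⧸ C) (quotAct V)
  let iV : V →* S := SemidirectProduct.inl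
  let iQ : G ⧸ C →* S := SemidirectProduct.inr
  have hiV : Function.Injective iV := SemidirectProduct.inl_injective
  have hiQ : Function.Injective iQ := SemidirectProduct.inr_injective
  haveI : Finite S := Finite.of_equiv _ SemidirectProduct.equivProd.symm
  set V' : Subgroup S := iV.range with hV'
  set H0 := J.map π with hH0
  set H : Subgroup S := H0.map iQ with hH
  haveI hH0n : H0.Normal := hJn.map _ (QuotientGroup.mk'_surjective C)
  have hconj : ∀ (g : G) (v : V), iQ (π g) * iV v * (iQ (π g))⁻¹ = iV (quotAct V (π g) v) :=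
    fun g v => by rw [← map_inv]; exact (SemidirectProduct.inl_aut (φ := quotAct V) (π g) v).symm
  have hfixmem : ∀ (g : G) (v : V),
      iQ (π g) * iV v = iV v * iQ (π g) ↔ g * (v : G) = v * g := by
    intro g v
    rw [← mul_inv_eq_iff_eq_mul, hconj, hiV.eq_iff, ← Subtype.coe_inj]
    rw [show (quotAct V (π g) v : G) = g * v * g⁻¹ from quotAct_mk V g v]
    exact mul_inv_eq_iff_eq_mul
  -- fixed points correspond
  have hfix : ∀ X : Subgroup G, Nat.card ↥(V' ⊓ Subgroup.centralizer ((X.map π).map iQ : Set S)) =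
      Nat.card ↥(V ⊓ Subgroup.centralizer (X : Set G)) := by
    intro X
    have e : V' ⊓ Subgroup.centralizer ((X.map π).map iQ : Set S) =
        ((Subgroup.centralizer (X : Set G)).subgroupOf V).map iV := by
      ext z
      constructor
      · intro hz
        obtain ⟨⟨v, rfl⟩, hz2⟩ := Subgroup.mem_inf.1 hz
        refine ⟨v, Subgroup.mem_centralizer_iff.2 fun x hx => ?_, rfl⟩
        exact (hfixmem x v).1 (Subgroup.mem_centralizer_iff.1 hz2 _ ⟨π x, ⟨x, hx, rfl⟩, rfl⟩)
      · rintro ⟨v, hv, rfl⟩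
        refine Subgroup.mem_inf.2 ⟨⟨v, rfl⟩, Subgroup.mem_centralizer_iff.2 ?_⟩
        rintro _ ⟨_, ⟨x, hx, rfl⟩, rfl⟩
        exact (hfixmem x v).2 (Subgroup.mem_centralizer_iff.1 hv x hx)
    rw [e, Subgroup.card_map_of_injective hiV,
      ← Subgroup.card_map_of_injective (f := V.subtype) V.subtype_injective,
      Subgroup.subgroupOf_map_subtype, inf_comm]
  have hV'e : IsElementaryAbelian p V' := by
    refine ⟨Modules.comm_iff.2 ?_, ?_⟩
    · rintro _ ⟨a, rfl⟩ _ ⟨b, rfl⟩
      rw [← map_mul, ← map_mul, show a * b = b * a from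
        Subtype.ext (Modules.elemAb_comm hV a.2 b.2)]
    · rintro _ ⟨a, rfl⟩
      rw [← map_pow, show a ^ p = 1 from Subtype.ext (by simpa using hV.2 a a.2), map_one]
  have hnorm : H ≤ Subgroup.normalizer (V' : Set S) := by
    rw [Subgroup.le_normalizer_iff]
    rintro _ ⟨_, ⟨g, -, rfl⟩, rfl⟩ _ ⟨v, rfl⟩
    exact ⟨_, (hconj g v).symm⟩
  have hfaith : H ⊓ Subgroup.centralizer (V' : Set S) = ⊥ := by
    rw [eq_bot_iff]
    intro z hz
    obtain ⟨⟨_, ⟨g, -, rfl⟩, rfl⟩, hz2⟩ := Subgroup.mem_inf.1 hz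
    have hg : g ∈ C := Subgroup.mem_centralizer_iff.2 fun v hv =>
      ((hfixmem g ⟨v, hv⟩).1 (Subgroup.mem_centralizer_iff.1 hz2 _ ⟨⟨v, hv⟩, rfl⟩).symm).symm
    rw [Subgroup.mem_bot, show π g = 1 from (QuotientGroup.eq_one_iff g).2 hg, map_one]
  have hself : Subgroup.centralizer (pPrimeCore p ↥H : Set ↥H) ≤ pPrimeCore p ↥H := by
    let e := H0.equivMapOfInjective iQ hiQ
    refine PSolv.centralizer_pPrimeCore_le (PSolv.isPSolvable_of_equiv e
      (PSolv.isPSolvable_subgroup (PSolv.isPSolvable_quotient hsep C) H0)) ?_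
    have h1 : (pCore p H0).map H0.subtype ≤ ⊥ := hOp ▸ PSolv.map_pCore_subtype_le
    rw [le_bot_iff, Subgroup.map_eq_bot_iff_of_injective _ H0.subtype_injective] at h1
    rw [← PSolv.map_pCore_equiv e, h1, Subgroup.map_bot]
  have hoff : ∀ A ∈ maxElementaryAbelianSubgroups p G,
      IsBestOffenderOn p V' ((A.map π).map iQ) := by
    intro A hA
    have hbest := Modules.maxElemAbIn_bestOffender (P := ⊤) (V := V)
      ⟨le_top, hA.1, fun B _ hB => hA.2 B hB⟩ hV le_top
    have hAe := Modules.elemAb_map iQ (Modules.elemAb_map π hA.1)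
    refine ⟨fun B' hB' => ?_, ?_, fun a ha => ?_⟩
    · set B := A ⊓ (B'.comap (iQ.comp π)) with hB
      have hBmap : (B.map π).map iQ = B' := by
        refine le_antisymm ?_ fun z hz => ?_
        · rw [Subgroup.map_map]
          exact (Subgroup.map_mono inf_le_right).trans (Subgroup.map_comap_le _ _)
        · obtain ⟨_, ⟨a, ha, rfl⟩, rfl⟩ := hB' hz
          exact ⟨π a, ⟨a, Subgroup.mem_inf.2 ⟨ha, hz⟩, rfl⟩, rfl⟩
      have key : ∀ X : Subgroup G,
          Nat.card ↥((X.map π).map iQ) * Nat.card ↥(X ⊓ C) = Nat.card X := by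
        intro X
        rw [Subgroup.card_map_of_injective hiQ, PSolv.card_map_mk_eq_relIndex, mul_comm]
        conv_rhs => rw [card_eq_card_mul_relIndex (inf_le_left : X ⊓ C ≤ X),
          Subgroup.inf_relIndex_left]
      have hint : B ⊓ C = A ⊓ C := by
        refine le_antisymm (inf_le_inf_right _ inf_le_left) fun x hx => ?_
        obtain ⟨hxA, hxC⟩ := Subgroup.mem_inf.1 hx
        refine Subgroup.mem_inf.2 ⟨Subgroup.mem_inf.2 ⟨hxA, ?_⟩, hxC⟩
        change iQ (π x) ∈ B'
        rw [show π x = 1 from (QuotientGroup.eq_one_iff x).2 hxC, map_one]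
        exact one_mem _
      have h1 := hbest.1 B inf_le_left
      rw [← key B, ← key A, hint, ← hfix B, ← hfix A, hBmap] at h1
      refine Nat.le_of_mul_le_mul_left ?_ (Nat.card_pos (α := ↥(A ⊓ C)))
      calc _ = _ := by ring
        _ ≤ _ := h1
        _ = _ := by ring
    · rw [Subgroup.commutator_eq_bot_iff_le_centralizer.2 (Modules.elemAb_le_centralizer hAe)]
      exact bot_le
    · rw [hAe.2 a ha]; exact one_mem _
  have hgen : H = ⨆ A : {A : Subgroup S // A ≤ H ∧ IsBestOffenderOn p V' A}, (A : Subgroup S) := by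
    refine le_antisymm ?_ (iSup_le fun A => A.2.1)
    conv_lhs =>
      rw [hH, hH0, hJdef, thompsonSubgroup, sSup_eq_iSup, Subgroup.map_iSup, Subgroup.map_iSup]
    refine iSup_le fun A => ?_
    rw [Subgroup.map_iSup, Subgroup.map_iSup]
    refine iSup_le fun hA => ?_
    refine le_iSup_of_le ⟨(A.map π).map iQ, ?_, hoff A hA⟩ le_rfl
    exact Subgroup.map_mono (Subgroup.map_mono (le_sSup hA))
  have h : GenHyp p V' H := ⟨⟨hV'e, hnorm, hfaith, hself⟩, hgen⟩
  obtain ⟨L, hL⟩ : ∃ L, IsLine p V' H L := by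
    by_contra hne
    push Not at hne
    have hb : H = ⊥ := le_bot_iff.1 (h.le_of_lines fun L hL => absurd hL (hne L))
    rw [hH, Subgroup.map_eq_bot_iff_of_injective _ hiQ, hH0, Subgroup.map_eq_bot_iff,
      QuotientGroup.ker_mk'] at hb
    exact hJ hb
  refine ⟨h.toHyp.prime_le_three hL, ?_⟩
  set E0 : Subgroup (G ⧸ C) := (eblock p H L).comap iQ with hE0
  have hEle : eblock p H L ≤ iQ.range := (eblock_le_H hL).trans (Subgroup.map_le_range _ _)
  have hE0map : E0.map iQ = eblock p H L := Subgroup.map_comap_eq_self hEle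
  set E := E0.comap π with hE
  have hCE : C ≤ E := QuotientGroup.le_comap_mk' C E0
  have hE0H : E0 ≤ H0 := fun x hx => by
    obtain ⟨y, hy, hyx⟩ := eblock_le_H hL (show iQ x ∈ eblock p H L from hx)
    exact hiQ hyx ▸ hy
  have hπJ : ∀ {g : G}, g ∈ J ⊔ C → π g ∈ H0 := fun {g} hg => by
    have h2 : (J ⊔ C).map π = H0 := by
      rw [Subgroup.map_sup, QuotientGroup.map_mk'_self, sup_bot_eq]
    exact h2 ▸ Subgroup.mem_map_of_mem π hg
  refine ⟨E, hCE, ?_, fun g hg => ?_, ?_⟩
  · intro x hx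
    obtain ⟨j, hj, hjx⟩ := hE0H hx
    have hc : j⁻¹ * x ∈ C := QuotientGroup.eq.1 hjx
    rw [show x = j * (j⁻¹ * x) by group]
    exact mul_mem (Subgroup.mem_sup_left hj) (Subgroup.mem_sup_right hc)
  · have hg2 : iQ (π g) ∈ H := ⟨_, hπJ hg, rfl⟩
    have hn := h.le_normalizer_eblock hL hg2
    rw [Subgroup.mem_normalizer_iff]
    intro x
    change iQ (π x) ∈ eblock p H L ↔ iQ (π (g * x * g⁻¹)) ∈ eblock p H L
    rw [map_mul π, map_mul π, map_inv π, map_mul iQ, map_mul iQ, map_inv iQ]
    exact Subgroup.mem_normalizer_iff.1 hn _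
  · haveI hn : (C.subgroupOf E).Normal := inferInstance
    refine ⟨hn, ?_⟩
    obtain ⟨e⟩ := h.toHyp.block_equiv hL
    let f : E →* E0 := (π.comp E.subtype).codRestrict E0 fun x => x.2
    have hfs : Function.Surjective f := by
      rintro ⟨y, hy⟩
      obtain ⟨x, rfl⟩ := QuotientGroup.mk'_surjective C y
      exact ⟨⟨x, hy⟩, rfl⟩
    have hfk : C.subgroupOf E = f.ker := by
      ext x
      rw [MonoidHom.mem_ker, ← Subtype.coe_inj, Subgroup.mem_subgroupOf]
      exact (QuotientGroup.eq_one_iff (N := C) (x : G)).symm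
    exact ⟨(QuotientGroup.quotientMulEquivOfEq hfk).trans
      ((QuotientGroup.quotientKerEquivOfSurjective f hfs).trans
        (((E0.equivMapOfInjective iQ hiQ).trans (MulEquiv.subgroupCongr hE0map)).trans e))⟩

end Cfsg.Agent.FF
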